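import Cfsg.Agent.Lib.Characters
import Mathlib.Analysis.SpecialFunctions.Complex.CircleAddChar

/-!
# Generalized characters on a cyclic group times a coprime group

Tools for the real-vector criterion: radical congruences of algebraic integers, inversion of a virtual
permutation character with prime power values, and integrality of a divided family.
-/

namespace Cfsg.Agent.Lib.Characters.RealVector

open scoped ComplexConjugate
open Cfsg.Agent.Lib.Characters Cfsg

set_option autoImplicit false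
set_option linter.unusedSectionVars false
set_option linter.style.haveILetI false

universe u

/-- `x` is an algebraic integer in the radical of `p`. -/
def Rad (p : ℕ) (x : ℂ) : Prop :=
  ∃ hx : IsIntegral ℤ x, (⟨x, hx⟩ : integralClosure ℤ ℂ) ∈
    (Ideal.span {((p : ℕ) : integralClosure ℤ ℂ)}).radical

theorem exists_int_of_isIntegral {q : ℚ} (h : IsIntegral ℤ (q : ℂ)) : ∃ z : ℤ, q = z := by
  have h' : IsIntegral ℤ q := (isIntegral_algebraMap_iff (algebraMap ℚ ℂ).injective).mp h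
  obtain ⟨z, hz⟩ := IsIntegrallyClosed.isIntegral_iff.mp h'
  exact ⟨z, hz.symm⟩

namespace Rad

variable {p : ℕ} {x y : ℂ}

theorem isIntegral (h : Rad p x) : IsIntegral ℤ x := h.1

theorem add (hx : Rad p x) (hy : Rad p y) : Rad p (x + y) := by
  obtain ⟨a, ha⟩ := hx
  obtain ⟨b, hb⟩ := hy
  exact ⟨a.add b, Ideal.add_mem _ ha hb⟩

theorem zero : Rad p 0 := ⟨isIntegral_zero, Ideal.zero_mem _⟩

theorem mul_left (hy : IsIntegral ℤ y) (hx : Rad p x) : Rad p (y * x) := by
  obtain ⟨a, ha⟩ := hx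
  exact ⟨hy.mul a, Ideal.mul_mem_left _ ⟨y, hy⟩ ha⟩

theorem mul_right (hx : Rad p x) (hy : IsIntegral ℤ y) : Rad p (x * y) := mul_comm y x ▸ hx.mul_left hy

theorem neg (hx : Rad p x) : Rad p (-x) := by
  obtain ⟨a, ha⟩ := hx
  exact ⟨a.neg, Ideal.neg_mem_iff _ |>.mpr ha⟩

theorem sub (hx : Rad p x) (hy : Rad p y) : Rad p (x - y) := sub_eq_add_neg x y ▸ hx.add hy.neg

theorem sum {ι : Type*} (s : Finset ι) {f : ι → ℂ} (h : ∀ i ∈ s, Rad p (f i)) : Rad p (∑ i ∈ s, f i) :=
  Finset.sum_induction _ _ (fun _ _ => Rad.add) Rad.zero h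

theorem of_pow {k : ℕ} (hx : IsIntegral ℤ x) (h : ∃ w, IsIntegral ℤ w ∧ x ^ k = p * w) : Rad p x := by
  obtain ⟨w, hw, he⟩ := h
  refine ⟨hx, k, Ideal.mem_span_singleton.mpr ⟨⟨w, hw⟩, Subtype.ext ?_⟩⟩
  simpa using he

theorem natCast_self : Rad p (p : ℂ) :=
  Rad.of_pow (k := 1) (isIntegral_algebraMap (x := ((p : ℕ) : ℤ))) ⟨1, isIntegral_one, by ring⟩

theorem dvd_of_int [hp : Fact p.Prime] {z : ℤ} (h : Rad p (z : ℂ)) : (p : ℤ) ∣ z := by
  obtain ⟨hz, k, hk⟩ := h
  obtain ⟨⟨w, hw⟩, he⟩ := Ideal.mem_span_singleton.mp hk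
  have he' : (z : ℂ) ^ k = (p : ℂ) * w := by simpa using congrArg Subtype.val he
  have hp0 : (p : ℂ) ≠ 0 := Nat.cast_ne_zero.mpr hp.out.ne_zero
  obtain ⟨m, hm⟩ := exists_int_of_isIntegral (q := (z : ℚ) ^ k / p) (by
    push_cast
    rwa [he', mul_div_cancel_left₀ _ hp0])
  rw [div_eq_iff (Nat.cast_ne_zero.mpr hp.out.ne_zero)] at hm
  have h1 : z ^ k = m * p := by exact_mod_cast hm
  exact (Nat.prime_iff_prime_int.mp hp.out).dvd_of_dvd_pow (h1 ▸ Dvd.intro_left m rfl)

end Rad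

variable (p : ℕ) [Fact p.Prime]

theorem isIntegral_stdAddChar (j : ZMod p) : IsIntegral ℤ (ZMod.stdAddChar j) := by
  refine IsIntegral.of_pow (n := p) (Fact.out : p.Prime).pos ?_
  rw [← AddChar.map_nsmul_eq_pow, nsmul_eq_mul, ZMod.natCast_self, zero_mul, AddChar.map_zero_eq_one]
  exact isIntegral_one

theorem rad_stdAddChar_sub_one (j : ZMod p) : Rad p (ZMod.stdAddChar j - 1) := by
  have hp : p.Prime := Fact.out
  have hint := isIntegral_stdAddChar p j
  let a : integralClosure ℤ ℂ := ⟨_, hint⟩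
  obtain ⟨r, hr⟩ := exists_add_pow_prime_eq hp a (-1)
  have hap : a ^ p = 1 := Subtype.ext (by
    show (ZMod.stdAddChar j) ^ p = (1 : ℂ)
    rw [← AddChar.map_nsmul_eq_pow, nsmul_eq_mul, ZMod.natCast_self, zero_mul, AddChar.map_zero_eq_one])
  have hneg : (p : integralClosure ℤ ℂ) ∣ 1 + (-1) ^ p := by
    rcases hp.eq_two_or_odd' with rfl | hodd
    · exact ⟨1, by norm_num⟩
    · exact ⟨0, by rw [hodd.neg_one_pow]; ring⟩
  refine ⟨hint.sub isIntegral_one, p, Ideal.mem_span_singleton.mpr ?_⟩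
  show (p : integralClosure ℤ ℂ) ∣ (a - 1) ^ p
  rw [sub_eq_add_neg, hr, hap]
  refine dvd_add hneg ?_
  exact Dvd.dvd.mul_right (Dvd.dvd.mul_right (Dvd.dvd.mul_right (dvd_refl _) _) _) _

variable {H : Type u} [Group H]

/-- The element `(s, h)` of the cyclic group of order `p` times `H`. -/
abbrev el (s : ZMod p) (h : H) : Multiplicative (ZMod p) × H := (Multiplicative.ofAdd s, h)

theorem IsGeneralizedCharacter.conjugate {G : Type*} [Group G] [Finite G] {θ : G → ℂ}
    (h : IsGeneralizedCharacter G θ) : IsGeneralizedCharacter G (fun g => conj (θ g)) := by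
  obtain ⟨a, b, ha, hb, rfl⟩ := h
  exact ⟨_, _, IsCharacter.conjugate ha, IsCharacter.conjugate hb, funext fun g => by simp⟩

theorem isGeneralizedCharacter_int {G : Type*} [Group G] (z : ℤ) :
    IsGeneralizedCharacter G (fun _ => (z : ℂ)) := by
  have := IsGeneralizedCharacter.intCast_smul
    (IsCharacter.isGeneralizedCharacter (isCharacter_one (G := G))) z
  simpa [Pi.smul_def] using this

theorem isIntegral_genChar {G : Type*} [Group G] [Finite G] {θ : G → ℂ}
    (h : IsGeneralizedCharacter G θ) (g : G) : IsIntegral ℤ (θ g) := by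
  obtain ⟨a, b, ha, hb, rfl⟩ := h
  exact (IsCharacter.isIntegral ha g).sub (IsCharacter.isIntegral hb g)

/-- A virtual character with prime power values is invertible up to a power of `p`. -/
theorem exists_inverse {G : Type*} [Group G] {π : G → ℂ} (hπ : IsGeneralizedCharacter G π) (N : ℕ)
    (hv : ∀ g, ∃ e, e ≤ N ∧ π g = (p : ℂ) ^ e) :
    ∃ (M : ℕ) (ν : G → ℂ), IsGeneralizedCharacter G ν ∧ ∀ g, π g * ν g = (p : ℂ) ^ M := by
  have key : ∀ k, ∃ (Q : G → ℂ) (S : ℕ), IsGeneralizedCharacter G Q ∧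
      ∀ g, ∏ e ∈ Finset.range k, (π g - (p : ℂ) ^ e) = π g * Q g + (-1) ^ k * (p : ℂ) ^ S := by
    intro k
    induction k with
    | zero => exact ⟨fun _ => ((0 : ℤ) : ℂ), 0, isGeneralizedCharacter_int 0, fun g => by simp⟩
    | succ k ih =>
      obtain ⟨Q, S, hQ, h⟩ := ih
      refine ⟨Q * (π - fun _ => (((p : ℤ) ^ k : ℤ) : ℂ)) + fun _ => (((-1 : ℤ) ^ k * (p : ℤ) ^ S : ℤ) : ℂ),
        S + k, IsGeneralizedCharacter.add (IsGeneralizedCharacter.mul hQ
          (IsGeneralizedCharacter.sub hπ (isGeneralizedCharacter_int _))) (isGeneralizedCharacter_int _),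
        fun g => ?_⟩
      rw [Finset.prod_range_succ, h g]
      simp only [Pi.add_apply, Pi.mul_apply, Pi.sub_apply]
      push_cast
      ring
  obtain ⟨Q, S, hQ, h⟩ := key (N + 1)
  refine ⟨S, fun g => ((((-1 : ℤ) ^ N : ℤ)) : ℂ) * Q g,
    IsGeneralizedCharacter.mul (isGeneralizedCharacter_int _) hQ, fun g => ?_⟩
  obtain ⟨e, he, hge⟩ := hv g
  have h1 := h g
  rw [Finset.prod_eq_zero (i := e) (Finset.mem_range.mpr (Nat.lt_succ_of_le he)) (by rw [hge, sub_self])] at h1
  rw [pow_succ] at h1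
  push_cast
  have h2 : π g * Q g = (-1) ^ N * (p : ℂ) ^ S := by linear_combination -h1
  have h3 : ((-1 : ℂ) ^ N) * (-1) ^ N = 1 := by rw [← mul_pow]; norm_num
  calc π g * ((-1) ^ N * Q g) = (-1) ^ N * (π g * Q g) := by ring
    _ = ((-1) ^ N * (-1) ^ N) * (p : ℂ) ^ S := by rw [h2]; ring
    _ = _ := by rw [h3, one_mul]

variable [Finite H]

/-- The linear character `(s, h) ↦ ζ^(j s)` times a character of `H`. -/
noncomputable def twist (j : ZMod p) (ψ : H → ℂ) : Multiplicative (ZMod p) × H → ℂ :=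
  fun x => ZMod.stdAddChar (Multiplicative.toAdd x.1 * j) * ψ x.2

theorem isCharacter_twist (j : ZMod p) {ψ : H → ℂ} (hψ : IsCharacter H ψ) :
    IsCharacter (Multiplicative (ZMod p) × H) (twist p j ψ) := by
  let lam : Multiplicative (ZMod p) × H →* ℂˣ :=
    (((ZMod.stdAddChar (N := p)).mulShift j).toMonoidHom.toHomUnits).comp (MonoidHom.fst _ _)
  have h := IsCharacter.mul (IsIrrCharacter.isCharacter (isIrrCharacter_unitsHom lam))
    (IsCharacter.comp hψ (MonoidHom.snd (Multiplicative (ZMod p)) H))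
  convert h using 1
  funext x
  simp only [Pi.mul_apply, Function.comp_apply, twist, MonoidHom.coe_snd]
  congr 1
  show ZMod.stdAddChar (Multiplicative.toAdd x.1 * j) = ZMod.stdAddChar (j * Multiplicative.toAdd x.1)
  rw [mul_comm]

/-- A virtual character divisible by `p ^ N` off the slice `s = 0` can be divided there. -/
theorem exists_divided (hpH : ¬ p ∣ Nat.card H) {F : Multiplicative (ZMod p) × H → ℂ}
    (hF : IsGeneralizedCharacter _ F) (θ : ZMod p → H → ℂ) (N : ℕ)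
    (hint : ∀ s, s ≠ 0 → ∀ h, IsIntegral ℤ (θ s h))
    (hFθ : ∀ s, s ≠ 0 → ∀ h, F (el p s h) = (p : ℂ) ^ N * θ s h) :
    ∃ Θ : Multiplicative (ZMod p) × H → ℂ, IsGeneralizedCharacter _ Θ ∧
      ∀ s, s ≠ 0 → ∀ h, Θ (el p s h) = θ s h := by
  classical
  have hp : p.Prime := Fact.out
  haveI := Fintype.ofFinite H
  haveI : Finite (IrrCharacter H) := finite_irrCharacter
  haveI := Fintype.ofFinite (IrrCharacter H)
  choose ν hν using fun (j : ZMod p) (ψ : IrrCharacter H) =>
    IsGeneralizedCharacter.exists_classInner_int hF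
      (IsCharacter.isGeneralizedCharacter (isCharacter_twist p j (irr_isCharacter ψ)))
  have hνsum : ∀ j (ψ : IrrCharacter H), (ν j ψ : ℂ) * ((p : ℂ) * Nat.card H) =
      ∑ s : ZMod p, conj (ZMod.stdAddChar (s * j)) * ∑ h : H, F (el p s h) * conj ((ψ : H → ℂ) h) := by
    intro j ψ
    rw [← hν, classInner, Nat.card_prod, Nat.card_eq_fintype_card (α := Multiplicative (ZMod p)),
      Fintype.card_multiplicative, ZMod.card, Nat.cast_mul, mul_comm, ← mul_assoc,
      mul_inv_cancel₀ (mul_ne_zero (Nat.cast_ne_zero.mpr hp.ne_zero) (Nat.cast_ne_zero.mpr Nat.card_pos.ne')),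
      one_mul, Fintype.sum_prod_type]
    refine Fintype.sum_equiv Multiplicative.toAdd _ _ fun s => ?_
    rw [Finset.mul_sum]
    refine Finset.sum_congr rfl fun h _ => ?_
    simp only [twist, map_mul, el, ofAdd_toAdd]
    ring
  -- divisibility of the differences
  have hdvd : ∀ j ψ, (p : ℤ) ^ N ∣ ν j ψ - ν 0 ψ := by
    intro j ψ
    set r : ℂ := ∑ s : ZMod p, (conj (ZMod.stdAddChar (s * j)) - 1) *
      (if s = 0 then 0 else ∑ h : H, θ s h * conj ((ψ : H → ℂ) h)) with hr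
    have hrad : Rad p r := Rad.sum _ fun s _ => by
      refine Rad.mul_right ?_ ?_
      · rw [← AddChar.map_neg_eq_conj]; exact rad_stdAddChar_sub_one p _
      · split_ifs with hs
        · exact isIntegral_zero
        · exact IsIntegral.sum _ fun h _ => (hint s hs h).mul
            (by rw [← IsCharacter.apply_inv (irr_isCharacter ψ)]; exact IsCharacter.isIntegral (irr_isCharacter ψ) _)
    have heq : ((ν j ψ - ν 0 ψ : ℤ) : ℂ) * ((p : ℂ) * Nat.card H) = (p : ℂ) ^ N * r := by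
      push_cast
      rw [sub_mul, hνsum, hνsum, ← Finset.sum_sub_distrib, hr, Finset.mul_sum]
      refine Finset.sum_congr rfl fun s _ => ?_
      split_ifs with hs
      · simp [hs]
      · rw [mul_zero, AddChar.map_zero_eq_one, map_one, one_mul,
          Finset.sum_congr rfl fun h _ => by rw [hFθ s hs h, mul_assoc], ← Finset.mul_sum]
        ring
    have hp0 : (p : ℂ) ≠ 0 := Nat.cast_ne_zero.mpr hp.ne_zero
    obtain ⟨z, hz⟩ := exists_int_of_isIntegral
      (q := ((ν j ψ - ν 0 ψ : ℤ) : ℚ) * ((p : ℚ) * Nat.card H) / (p : ℚ) ^ N) (by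
        push_cast
        push_cast at heq
        rw [heq, mul_div_cancel_left₀ _ (pow_ne_zero _ hp0)]
        exact hrad.isIntegral)
    rw [div_eq_iff (pow_ne_zero _ (Nat.cast_ne_zero.mpr hp.ne_zero))] at hz
    have hrz : r = z := by
      have h1 := congrArg (fun q : ℚ => (q : ℂ)) hz
      push_cast at h1
      push_cast at heq
      rw [heq, mul_comm] at h1
      exact mul_right_cancel₀ (pow_ne_zero _ hp0) h1
    obtain ⟨z', rfl⟩ := Rad.dvd_of_int (hrz ▸ hrad)
    have h2 : (ν j ψ - ν 0 ψ) * ((p : ℤ) * Nat.card H) = (p : ℤ) * z' * (p : ℤ) ^ N := by exact_mod_cast hz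
    have h3 : (ν j ψ - ν 0 ψ) * (Nat.card H : ℤ) = z' * (p : ℤ) ^ N :=
      mul_left_cancel₀ (Int.natCast_ne_zero.mpr hp.ne_zero) (by linear_combination h2)
    refine IsCoprime.dvd_of_dvd_mul_right (IsCoprime.pow_left ?_) ⟨z', h3.trans (mul_comm _ _)⟩
    exact Nat.isCoprime_iff_coprime.mpr ((hp.coprime_iff_not_dvd).mpr hpH)
  choose m hm using hdvd
  refine ⟨∑ j : ZMod p, ∑ ψ : IrrCharacter H, (m j ψ : ℂ) • twist p j (ψ : H → ℂ),
    IsGeneralizedCharacter.sum _ fun j _ => IsGeneralizedCharacter.sum _ fun ψ _ =>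
      IsGeneralizedCharacter.intCast_smul
        (IsCharacter.isGeneralizedCharacter (isCharacter_twist p j (irr_isCharacter ψ))) _,
    fun s hs h => ?_⟩
  have hpN : (p : ℂ) ^ N ≠ 0 := pow_ne_zero _ (Nat.cast_ne_zero.mpr hp.ne_zero)
  refine mul_left_cancel₀ hpN ?_
  rw [← hFθ s hs h]
  simp only [Finset.sum_apply, Pi.smul_apply, smul_eq_mul, twist, el, toAdd_ofAdd, Finset.mul_sum]
  have hterm : ∀ (j : ZMod p) (ψ : IrrCharacter H),
      (p : ℂ) ^ N * ((m j ψ : ℂ) * (ZMod.stdAddChar (s * j) * (ψ : H → ℂ) h)) =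
      ZMod.stdAddChar (s * j) * ((ν j ψ : ℂ) * (ψ : H → ℂ) h) -
        ZMod.stdAddChar (s * j) * ((ν 0 ψ : ℂ) * (ψ : H → ℂ) h) := by
    intro j ψ
    have := congrArg (fun z : ℤ => (z : ℂ)) (hm j ψ)
    push_cast at this
    rw [← mul_sub, ← sub_mul, this]
    ring
  rw [Finset.sum_congr rfl fun j _ => Finset.sum_congr rfl fun ψ _ => hterm j ψ]
  simp only [Finset.sum_sub_distrib, ← Finset.mul_sum]
  have hz : ∑ j : ZMod p, ZMod.stdAddChar (s * j) = (0 : ℂ) := by
    rw [show (∑ j : ZMod p, ZMod.stdAddChar (s * j)) = ∑ j, ZMod.stdAddChar (j * s) from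
      Finset.sum_congr rfl fun j _ => by rw [mul_comm], AddChar.sum_mulShift _ (ZMod.isPrimitive_stdAddChar p),
      if_neg hs, Nat.cast_zero]
  rw [← Finset.sum_mul _ _ (∑ ψ : IrrCharacter H, (ν 0 ψ : ℂ) * (ψ : H → ℂ) h), hz, zero_mul, sub_zero]
  -- Fourier inversion in `s`
  set g : ZMod p → H → ℂ := fun j x =>
    (p : ℂ)⁻¹ * ∑ t : ZMod p, conj (ZMod.stdAddChar (t * j)) * F (el p t x) with hg
  have hgc : ∀ j, IsClassFunction H (g j) := fun j a b => by
    simp only [hg]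
    congr 1
    refine Finset.sum_congr rfl fun t _ => congrArg _ ?_
    have := IsGeneralizedCharacter.isClassFunction hF (el p t a) (1, b)
    simpa [el] using this
  have hgν : ∀ j (ψ : IrrCharacter H), classInner (g j) (ψ : H → ℂ) = (ν j ψ : ℂ) := by
    intro j ψ
    have hp0 : (p : ℂ) ≠ 0 := Nat.cast_ne_zero.mpr hp.ne_zero
    have hH0 : (Nat.card H : ℂ) ≠ 0 := Nat.cast_ne_zero.mpr Nat.card_pos.ne'
    have h1 := hνsum j ψ
    rw [classInner, hg]
    simp only [Finset.mul_sum, Finset.sum_mul]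
    rw [Finset.sum_comm]
    refine mul_right_cancel₀ (mul_ne_zero hp0 hH0) ?_
    rw [h1, Finset.sum_mul]
    refine Finset.sum_congr rfl fun t _ => ?_
    rw [Finset.sum_mul, Finset.mul_sum]
    refine Finset.sum_congr rfl fun x _ => ?_
    field_simp
  have hexp : ∀ j, ∑ ψ : IrrCharacter H, (ν j ψ : ℂ) * (ψ : H → ℂ) h = g j h := fun j => by
    conv_rhs => rw [eq_sum_classInner (hgc j)]
    simp [Finset.sum_apply, hgν]
  rw [Finset.sum_congr rfl fun j _ => by rw [hexp j]]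
  simp only [hg, Finset.mul_sum]
  rw [Finset.sum_comm, Finset.sum_eq_single s]
  · have : ∀ j : ZMod p, ZMod.stdAddChar (s * j) * ((p : ℂ)⁻¹ * (conj (ZMod.stdAddChar (s * j)) * F (el p s h)))
        = (p : ℂ)⁻¹ * F (el p s h) := fun j => by
      rw [mul_left_comm, ← mul_assoc (ZMod.stdAddChar (s * j)) (conj _), ← AddChar.map_neg_eq_conj,
        ← AddChar.map_add_eq_mul, add_neg_cancel, AddChar.map_zero_eq_one, one_mul]
    rw [Finset.sum_congr rfl fun j _ => this j, Finset.sum_const, Finset.card_univ, ZMod.card, nsmul_eq_mul,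
      ← mul_assoc, mul_inv_cancel₀ (Nat.cast_ne_zero.mpr hp.ne_zero), one_mul]
  · intro t _ ht
    have : ∀ j : ZMod p, ZMod.stdAddChar (s * j) * ((p : ℂ)⁻¹ * (conj (ZMod.stdAddChar (t * j)) * F (el p t h)))
        = ((p : ℂ)⁻¹ * F (el p t h)) * ZMod.stdAddChar (j * (s - t)) := fun j => by
      rw [show j * (s - t) = s * j + -(t * j) by ring, AddChar.map_add_eq_mul, AddChar.map_neg_eq_conj]
      ring
    rw [Finset.sum_congr rfl fun j _ => this j, ← Finset.mul_sum,
      AddChar.sum_mulShift _ (ZMod.isPrimitive_stdAddChar p), if_neg (sub_ne_zero.mpr (Ne.symm ht)),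
      Nat.cast_zero, mul_zero]
  · simp

/-- The conclusion required of a module: a virtual character playing the role of a square root of the
index of the fixed points. -/
def HasRoot {W : Type*} (act : H → W → W) : Prop :=
  ∃ Θ : Multiplicative (ZMod p) × H → ℂ, IsGeneralizedCharacter _ Θ ∧
    ∀ s : ZMod p, s ≠ 0 → Θ (el p s 1) = 1 ∧
      ∀ h : H, Complex.normSq (Θ (el p s h)) * Nat.card {w : W // act h w = w} ≤ Nat.card W ∧
        ((∃ w, act h w ≠ w) → Rad p (Θ (el p s h)))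

/-- A root from an invertible one. -/
theorem hasRoot_of_eta {W : Type*} [Finite W] {act : H → W → W} (hpH : ¬ p ∣ Nat.card H)
    {π η : Multiplicative (ZMod p) × H → ℂ} (hη : IsGeneralizedCharacter _ η)
    (hπ : IsGeneralizedCharacter _ π) (N : ℕ) (hπv : ∀ x, ∃ e, e ≤ N ∧ π x = (p : ℂ) ^ e)
    (θ : ZMod p → H → ℂ) (hint : ∀ s, s ≠ 0 → ∀ h, IsIntegral ℤ (θ s h))
    (heq : ∀ s, s ≠ 0 → ∀ h, θ s h * π (el p s h) = η (el p s 1) * conj (η (el p s h)))
    (h1 : ∀ s, s ≠ 0 → θ s 1 = 1)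
    (hb : ∀ s, s ≠ 0 → ∀ h, Complex.normSq (θ s h) * Nat.card {w : W // act h w = w} ≤ Nat.card W)
    (hrad : ∀ s, s ≠ 0 → ∀ h, (∃ w, act h w ≠ w) → Rad p (θ s h)) : HasRoot p act := by
  obtain ⟨M, ν, hν, hπν⟩ := exists_inverse p hπ N hπv
  let proj : Multiplicative (ZMod p) × H →* Multiplicative (ZMod p) × H :=
    (MonoidHom.fst _ _).prod 1
  have hF := IsGeneralizedCharacter.mul (IsGeneralizedCharacter.mul
    (IsGeneralizedCharacter.comp hη proj) (IsGeneralizedCharacter.conjugate hη)) hν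
  obtain ⟨Θ, hΘ, hΘθ⟩ := exists_divided p hpH hF θ M hint fun s hs h => by
    have hs1 : proj (el p s h) = el p s 1 := rfl
    simp only [Pi.mul_apply, Function.comp_apply, hs1]
    rw [← heq s hs h, mul_assoc, hπν, mul_comm]
  refine ⟨Θ, hΘ, fun s hs => ⟨(hΘθ s hs 1).trans (h1 s hs), fun h => ?_⟩⟩
  rw [hΘθ s hs h]
  exact ⟨hb s hs h, hrad s hs h⟩

end Cfsg.Agent.Lib.Characters.RealVector
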