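import Cfsg.Agent.Lib.Characters.RealVector.Algebra
import Mathlib.LinearAlgebra.BilinearForm.Orthogonal
import Mathlib.LinearAlgebra.Trace

/-!
# Roots for modules with an invariant symmetric form

In odd characteristic the Gauss sums of the quadratic form give the required virtual character.
-/

namespace Cfsg.Agent.Lib.Characters.RealVector

open scoped ComplexConjugate
open Cfsg.Agent.Lib.Characters Cfsg

set_option autoImplicit false
set_option linter.unusedSectionVars false
set_option linter.unusedVariables false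
set_option linter.style.haveILetI false

universe u

variable (p : ℕ) [hp : Fact p.Prime] {H : Type u} [Group H] [Finite H]
  {W : Type u} [AddCommGroup W] [Module (ZMod p) W] [Finite W]

section Linear

variable {p}

/-- The fixed space of an element. -/
noncomputable abbrev fixS (ρ : Representation (ZMod p) H W) (h : H) : Submodule (ZMod p) W :=
  LinearMap.ker (ρ h - 1)

/-- The commutator space of an element. -/
noncomputable abbrev movS (ρ : Representation (ZMod p) H W) (h : H) : Submodule (ZMod p) W :=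
  LinearMap.range (ρ h - 1)

variable (ρ : Representation (ZMod p) H W) (h : H)

theorem mem_fixS {w : W} : w ∈ fixS ρ h ↔ ρ h w = w := by
  simp [fixS, sub_eq_zero]

theorem card_fix : Nat.card {w : W // ρ h w = w} = Nat.card (fixS ρ h) :=
  Nat.card_congr (Equiv.subtypeEquivRight fun w => (mem_fixS ρ h).symm)

theorem card_fixS_mul_movS : Nat.card (fixS ρ h) * Nat.card (movS ρ h) = Nat.card W := by
  rw [← Nat.card_congr (LinearMap.quotKerEquivRange (ρ h - 1)).toEquiv,
    ← Submodule.card_eq_card_quotient_mul_card]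

theorem exists_card_eq_pow (S : Submodule (ZMod p) W) : ∃ k, Nat.card S = p ^ k :=
  ⟨Module.finrank (ZMod p) S, by rw [Module.natCard_eq_pow_finrank (K := ZMod p), Nat.card_zmod]⟩

theorem disjoint_fixS_movS (hpH : ¬ p ∣ Nat.card H) : Disjoint (fixS ρ h) (movS ρ h) := by
  rw [Submodule.disjoint_def]
  rintro x hx ⟨w, rfl⟩
  set x := (ρ h - 1) w with hxw
  have hx' : ρ h x = x := (mem_fixS ρ h).mp hx
  have key : ∀ i : ℕ, ρ (h ^ i) w = w + i • x := fun i => by
    induction i with
    | zero => simp
    | succ i ih =>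
      rw [pow_succ', map_mul, Module.End.mul_apply, ih, map_add, map_nsmul, hx', succ_nsmul, hxw,
        LinearMap.sub_apply, Module.End.one_apply]
      abel
  have h1 := key (orderOf h)
  rw [pow_orderOf_eq_one, map_one, Module.End.one_apply, left_eq_add,
    ← Nat.cast_smul_eq_nsmul (ZMod p), smul_eq_zero] at h1
  refine h1.resolve_left fun hz => hpH ?_
  exact ((ZMod.natCast_eq_zero_iff _ p).mp hz).trans (orderOf_dvd_natCard h)

theorem fixS_sup_movS (hpH : ¬ p ∣ Nat.card H) : fixS ρ h ⊔ movS ρ h = ⊤ := by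
  refine Submodule.eq_top_of_finrank_eq ((Submodule.finrank_le _).antisymm ?_)
  have h1 := Submodule.finrank_sup_add_finrank_inf_eq (fixS ρ h) (movS ρ h)
  rw [(disjoint_fixS_movS ρ h hpH).eq_bot, finrank_bot, add_zero] at h1
  rw [h1, add_comm, LinearMap.finrank_range_add_finrank_ker]

theorem orth_fixS_movS {b : LinearMap.BilinForm (ZMod p) W}
    (hinv : ∀ g x y, b (ρ g x) (ρ g y) = b x y) {c d : W} (hc : c ∈ fixS ρ h)
    (hd : d ∈ movS ρ h) : b c d = 0 := by
  obtain ⟨w, rfl⟩ := hd
  rw [LinearMap.sub_apply, Module.End.one_apply, map_sub]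
  conv_lhs => arg 1; rw [← (mem_fixS ρ h).mp hc]
  rw [hinv, sub_self]

theorem one_le_of_moved {k : ℕ} (hk : Nat.card (movS ρ h) = p ^ k) (hmv : ∃ w, ρ h w ≠ w) :
    1 ≤ k := by
  obtain ⟨w, hw⟩ := hmv
  rcases Nat.eq_zero_or_pos k with rfl | hk0
  · exfalso
    rw [pow_zero, Nat.card_eq_one_iff_unique] at hk
    haveI := hk.1
    apply hw
    have h0 := Subsingleton.elim (⟨(ρ h - 1) w, ⟨w, rfl⟩⟩ : movS ρ h) 0
    simpa [sub_eq_zero] using congrArg Subtype.val h0
  · exact hk0

end Linear

section Monomial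

variable (ρ : Representation (ZMod p) H W) (Q : W → ZMod p) (hQ : ∀ h w, Q (ρ h w) = Q w)

theorem rho_inv_apply (h : H) (w : W) : ρ h (ρ h⁻¹ w) = w := by
  rw [← Module.End.mul_apply, ← map_mul, mul_inv_cancel, map_one, Module.End.one_apply]

/-- The monomial representation on functions on `W`. -/
noncomputable def monRep : Representation ℂ (Multiplicative (ZMod p) × H) (W → ℂ) where
  toFun x :=
    { toFun := fun f u => ZMod.stdAddChar (Multiplicative.toAdd x.1 * Q u) * f (ρ x.2⁻¹ u)
      map_add' := fun f g => funext fun u => by simp [mul_add]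
      map_smul' := fun c f => funext fun u => by simp [mul_left_comm] }
  map_one' := LinearMap.ext fun f => funext fun u => by
    simp only [Prod.fst_one, toAdd_one, zero_mul, AddChar.map_zero_eq_one, Prod.snd_one, inv_one,
      map_one, Module.End.one_apply, one_mul, LinearMap.coe_mk, AddHom.coe_mk]
  map_mul' x y := LinearMap.ext fun f => funext fun u => by
    simp only [Prod.fst_mul, toAdd_mul, Prod.snd_mul, mul_inv_rev, map_mul, Module.End.mul_apply,
      LinearMap.coe_mk, AddHom.coe_mk]
    rw [show Q (ρ x.2⁻¹ u) = Q u from hQ _ _, add_mul, AddChar.map_add_eq_mul, mul_assoc]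

open Classical in
theorem monRep_character [Fintype W] (x : Multiplicative (ZMod p) × H) :
    (monRep p ρ Q hQ).character x =
      ∑ u : W, if ρ x.2 u = u then ZMod.stdAddChar (Multiplicative.toAdd x.1 * Q u) else 0 := by
  rw [Representation.character, LinearMap.trace_eq_matrix_trace ℂ (Pi.basisFun ℂ W), Matrix.trace]
  refine Finset.sum_congr rfl fun u _ => ?_
  simp only [Matrix.diag_apply, LinearMap.toMatrix_apply, Pi.basisFun_apply, Pi.basisFun_repr]
  show ZMod.stdAddChar (Multiplicative.toAdd x.1 * Q u) * (Pi.single u (1 : ℂ) : W → ℂ) (ρ x.2⁻¹ u) = _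
  have hiff : ρ x.2⁻¹ u = u ↔ ρ x.2 u = u := by
    constructor <;> intro h
    · conv_lhs => rw [← h]
      rw [rho_inv_apply]
    · conv_lhs => rw [← h]
      rw [← Module.End.mul_apply, ← map_mul, inv_mul_cancel, map_one, Module.End.one_apply]
  rw [Pi.single_apply]
  by_cases h : ρ x.2 u = u
  · rw [if_pos h, if_pos (hiff.mpr h), mul_one]
  · rw [if_neg h, if_neg (fun h' => h (hiff.mp h')), mul_zero]

end Monomial

/-- A Gauss sum on a non-degenerate subspace has absolute value the square root of its order. -/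
theorem normSq_gauss (hp2 : p ≠ 2) (b : LinearMap.BilinForm (ZMod p) W)
    (hsym : ∀ x y, b x y = b y x) (S : Submodule (ZMod p) W) [Fintype S]
    (hS : ∀ z ∈ S, (∀ y ∈ S, b z y = 0) → z = 0) {s : ZMod p} (hs : s ≠ 0) :
    Complex.normSq (∑ x : S, ZMod.stdAddChar (s * b x x)) = (Nat.card S : ℝ) := by
  classical
  set e := ZMod.stdAddChar (N := p) with he
  apply Complex.ofReal_injective
  rw [Complex.normSq_eq_conj_mul_self, map_sum, Finset.sum_mul_sum]
  simp only [← AddChar.map_neg_eq_conj, ← AddChar.map_add_eq_mul]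
  have h2 : (2 : ZMod p) ≠ 0 := fun h => hp2 <| by
    have h' : ((2 : ℕ) : ZMod p) = 0 := by exact_mod_cast h
    exact ((Nat.prime_dvd_prime_iff_eq hp.out Nat.prime_two).mp
      ((ZMod.natCast_eq_zero_iff _ p).mp h'))
  calc ∑ y : S, ∑ x : S, e (-(s * b y y) + s * b x x)
      = ∑ y : S, ∑ z : S, e (s * b z z) * e ((2 * s) * b z y) := by
        refine Finset.sum_congr rfl fun y _ => ?_
        refine Fintype.sum_equiv (Equiv.subRight y) _ _ fun x => ?_
        rw [← AddChar.map_add_eq_mul, Equiv.subRight_apply, Submodule.coe_sub]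
        congr 1
        simp only [map_sub, LinearMap.sub_apply]
        rw [hsym (x : W) y]
        ring
    _ = ∑ z : S, ∑ y : S, e (s * b z z) * e ((2 * s) * b z y) := Finset.sum_comm
    _ = ∑ z : S, if z = 0 then (Nat.card S : ℂ) else 0 := by
        refine Finset.sum_congr rfl fun z _ => ?_
        split_ifs with hz
        · subst hz
          simp [Nat.card_eq_fintype_card]
        · rw [← Finset.mul_sum]
          let ψ : AddChar S ℂ := e.compAddMonoidHom
            (AddMonoidHom.mk' (fun y : S => (2 * s) * b z y) fun a c => by simp [mul_add])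
          have hψ : ψ ≠ 0 := fun h0 => by
            apply hz
            refine Subtype.ext (hS z z.2 fun y hy => ?_)
            have h1 := DFunLike.congr_fun h0 (⟨y, hy⟩ : S)
            simp only [ψ, AddChar.compAddMonoidHom_apply, AddMonoidHom.mk'_apply,
              AddChar.zero_apply] at h1
            have h3 : (2 * s) * b (z : W) y = 0 := ZMod.injective_stdAddChar
              (h1.trans (AddChar.map_zero_eq_one _).symm)
            exact (mul_eq_zero.mp h3).resolve_left (mul_ne_zero h2 hs)
          have h4 : ∑ y : S, ψ y = 0 := AddChar.sum_eq_zero_iff_ne_zero.mpr hψ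
          rw [show ∑ y : S, e ((2 * s) * b z y) = ∑ y : S, ψ y from rfl, h4, mul_zero]
    _ = ((Nat.card S : ℝ) : ℂ) := by simp

/-- Gauss sums give roots for invariant symmetric forms in odd characteristic. -/
theorem hasRoot_symm (hp2 : p ≠ 2) (hpH : ¬ p ∣ Nat.card H) (ρ : Representation (ZMod p) H W)
    (b : LinearMap.BilinForm (ZMod p) W) (hsym : ∀ x y, b x y = b y x)
    (hnd : ∀ x, (∀ y, b x y = 0) → x = 0) (hinv : ∀ g x y, b (ρ g x) (ρ g y) = b x y) :
    HasRoot p (fun (h : H) (w : W) => ρ h w) := by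
  classical
  haveI := Fintype.ofFinite W
  set e := ZMod.stdAddChar (N := p) with he
  set η := (monRep p ρ (fun w => b w w) (fun h w => hinv h w w)).character with hη'
  have hη : IsGeneralizedCharacter _ η :=
    IsCharacter.isGeneralizedCharacter (isCharacter_of_rep _)
  let proj : Multiplicative (ZMod p) × H →* Multiplicative (ZMod p) × H :=
    (1 : Multiplicative (ZMod p) × H →* Multiplicative (ZMod p)).prod (MonoidHom.snd _ _)
  have hηel : ∀ s h, η (el p s h) = ∑ x : fixS ρ h, e (s * b x x) := fun s h => by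
    rw [hη', monRep_character, ← Finset.sum_filter]
    exact Finset.sum_subtype _ (fun x => by simpa using (mem_fixS ρ h).symm)
      (fun x => e (s * b x x))
  have hπ : ∀ x, (η ∘ proj) x = (Nat.card (fixS ρ x.2) : ℂ) := fun x => by
    rw [Function.comp_apply, show proj x = el p 0 x.2 from rfl, hηel]
    simp [Nat.card_eq_fintype_card]
  obtain ⟨N, hN⟩ := exists_card_eq_pow (⊤ : Submodule (ZMod p) W)
  have hdec : ∀ s h, η (el p s 1) =
      (∑ x : fixS ρ h, e (s * b x x)) * ∑ x : movS ρ h, e (s * b x x) := by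
    intro s h
    rw [hη', monRep_character, Finset.sum_mul_sum, ← Fintype.sum_prod_type']
    simp only [map_one, Module.End.one_apply, if_true, toAdd_ofAdd]
    have hbij : Function.Bijective fun x : fixS ρ h × movS ρ h => (x.1 : W) + x.2 := by
      refine ⟨fun x y hxy => ?_, fun w => ?_⟩
      · simp only at hxy
        have h1 : (x.1 : W) - y.1 = (y.2 : W) - x.2 := by
          rw [sub_eq_sub_iff_add_eq_add, hxy, add_comm]
        have h2 := Submodule.disjoint_def.mp (disjoint_fixS_movS ρ h hpH) _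
          (sub_mem x.1.2 y.1.2) (h1 ▸ sub_mem y.2.2 x.2.2)
        have h3 : (x.1 : W) = y.1 := sub_eq_zero.mp h2
        refine Prod.ext (Subtype.ext h3) (Subtype.ext ?_)
        simp only [h3] at hxy
        exact add_left_cancel hxy
      · have hw : w ∈ fixS ρ h ⊔ movS ρ h := by rw [fixS_sup_movS ρ h hpH]; trivial
        obtain ⟨c, hc, d, hd, rfl⟩ := Submodule.mem_sup.mp hw
        exact ⟨(⟨c, hc⟩, ⟨d, hd⟩), rfl⟩
    refine (Fintype.sum_bijective _ hbij _ _ fun x => ?_).symm
    rw [← AddChar.map_add_eq_mul]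
    congr 1
    simp only [map_add, LinearMap.add_apply, hsym (x.2 : W) x.1,
      orth_fixS_movS ρ h hinv x.1.2 x.2.2]
    ring
  have hndC : ∀ h, ∀ z ∈ fixS ρ h, (∀ y ∈ fixS ρ h, b z y = 0) → z = 0 := fun h z hz h0 => by
    refine hnd z fun w => ?_
    have hw : w ∈ fixS ρ h ⊔ movS ρ h := by rw [fixS_sup_movS ρ h hpH]; trivial
    obtain ⟨c, hc, d, hd, rfl⟩ := Submodule.mem_sup.mp hw
    rw [map_add, h0 c hc, orth_fixS_movS ρ h hinv hz hd, add_zero]
  have hndD : ∀ h, ∀ z ∈ movS ρ h, (∀ y ∈ movS ρ h, b z y = 0) → z = 0 := fun h z hz h0 => by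
    refine hnd z fun w => ?_
    have hw : w ∈ fixS ρ h ⊔ movS ρ h := by rw [fixS_sup_movS ρ h hpH]; trivial
    obtain ⟨c, hc, d, hd, rfl⟩ := Submodule.mem_sup.mp hw
    rw [map_add, h0 d hd, hsym z c, orth_fixS_movS ρ h hinv hc hz, add_zero]
  refine hasRoot_of_eta p hpH hη (IsGeneralizedCharacter.comp hη proj) N (fun x => ?_)
    (fun s h => ∑ d : movS ρ h, e (s * b d d)) (fun s _ h => ?_) (fun s hs h => ?_) (fun s _ => ?_)
    (fun s hs h => ?_) (fun s _ h hmv => ?_)
  · obtain ⟨k, hk⟩ := exists_card_eq_pow (fixS ρ x.2)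
    refine ⟨k, (Nat.pow_le_pow_iff_right hp.out.one_lt).mp ?_, ?_⟩
    · rw [← hk, ← hN]
      exact Nat.card_le_card_of_injective (fun c => ⟨c.1, trivial⟩) fun a c h =>
        Subtype.ext (congrArg Subtype.val h :)
    · rw [hπ, hk, Nat.cast_pow]
  · exact IsIntegral.sum _ fun d _ => isIntegral_stdAddChar p _
  · rw [hπ, hdec s h, hηel]
    have h1 := normSq_gauss p hp2 b hsym (fixS ρ h) (hndC h) hs
    have h2 : ((Nat.card (fixS ρ h) : ℝ) : ℂ) = (Nat.card (fixS ρ h) : ℂ) := by simp
    rw [← h2, ← h1, Complex.normSq_eq_conj_mul_self]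
    ring
  · have h0 : ∀ d : movS ρ (1 : H), (d : W) = 0 := fun d => by
      obtain ⟨w, hw⟩ := d.2
      rw [← hw, map_one, sub_self, LinearMap.zero_apply]
    haveI : Subsingleton (movS ρ (1 : H)) :=
      ⟨fun a c => Subtype.ext ((h0 a).trans (h0 c).symm)⟩
    rw [Fintype.sum_subsingleton _ 0]
    simp
  · rw [normSq_gauss p hp2 b hsym (movS ρ h) (hndD h) hs, card_fix]
    exact_mod_cast le_of_eq ((mul_comm _ _).trans (card_fixS_mul_movS ρ h))
  · obtain ⟨k, hk⟩ := exists_card_eq_pow (movS ρ h)
    have hk1 := one_le_of_moved ρ h hk hmv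
    have h1 : ∑ d : movS ρ h, e (s * b d d) =
        ∑ d : movS ρ h, (e (s * b d d) - 1) + (p : ℂ) ^ (k - 1) * p := by
      rw [Finset.sum_sub_distrib, Finset.sum_const, Finset.card_univ, ← Nat.card_eq_fintype_card,
        hk, nsmul_eq_mul, mul_one, ← pow_succ, Nat.sub_add_cancel hk1, Nat.cast_pow]
      ring
    rw [h1]
    exact (Rad.sum _ fun d _ => rad_stdAddChar_sub_one p _).add
      (Rad.natCast_self.mul_left (IsIntegral.pow (isIntegral_algebraMap (x := ((p : ℕ) : ℤ))) _))

end Cfsg.Agent.Lib.Characters.RealVector
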