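import Cfsg.Agent.Lib.Characters.RealVector.Gauss
import Cfsg.Agent.Lib.Characters.Gallagher
import Cfsg.Agent.Lib.Characters.ExtensionCoprime
import Cfsg.Agent.Lib.Characters.Extraspecial
import Mathlib.GroupTheory.SemidirectProduct

/-!
# Roots for modules with an invariant alternating form

The character of a Heisenberg group extends to its extension by the coprime group; its values on the
complement give the required virtual character.
-/

namespace Cfsg.Agent.Lib.Characters.RealVector

open scoped ComplexConjugate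
open Cfsg.Agent.Lib.Characters Cfsg

set_option autoImplicit false
set_option linter.unusedSectionVars false
set_option linter.unusedVariables false
set_option linter.style.haveILetI false

universe u

section Lagrangian

variable {p : ℕ} [Fact p.Prime] {W : Type u} [AddCommGroup W] [Module (ZMod p) W] [Finite W]

theorem exists_lagrangian (A : LinearMap.BilinForm (ZMod p) W) (halt : ∀ x, A x x = 0)
    (hnd : ∀ x, (∀ y, A x y = 0) → x = 0) :
    ∃ L : Submodule (ZMod p) W, (∀ x ∈ L, ∀ y ∈ L, A x y = 0) ∧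
      Nat.card W = Nat.card L * Nat.card L := by
  classical
  haveI : Finite (Submodule (ZMod p) W) := Finite.of_injective _ SetLike.coe_injective
  have hrefl : A.IsRefl := fun x y h => by
    have h1 := halt (x + y)
    simp only [map_add, LinearMap.add_apply, halt, h, zero_add, add_zero] at h1
    exact h1
  have hnd' : A.Nondegenerate := ⟨fun x hx => hnd x hx, fun x hx => hnd x fun y => hrefl y x (hx y)⟩
  obtain ⟨L, hL, hmax⟩ := (Set.toFinite {L : Submodule (ZMod p) W | ∀ x ∈ L, ∀ y ∈ L, A x y = 0}).exists_maximalFor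
    id _ ⟨⊥, fun x hx y _ => by simp [(Submodule.mem_bot _).mp hx]⟩
  refine ⟨L, hL, ?_⟩
  have heq : A.orthogonal L = L := by
    refine le_antisymm (fun x hx => ?_) fun x hx n hn => hL n hn x hx
    by_contra hxL
    refine hxL (hmax (j := L ⊔ Submodule.span (ZMod p) {x}) ?_ le_sup_left
      (Submodule.mem_sup_right (Submodule.mem_span_singleton_self x)))
    intro a ha b hb
    obtain ⟨l, hl, r, hr, rfl⟩ := Submodule.mem_sup.mp ha
    obtain ⟨l', hl', r', hr', rfl⟩ := Submodule.mem_sup.mp hb
    obtain ⟨c, rfl⟩ := Submodule.mem_span_singleton.mp hr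
    obtain ⟨c', rfl⟩ := Submodule.mem_span_singleton.mp hr'
    simp only [map_add, map_smul, LinearMap.add_apply, LinearMap.smul_apply, smul_eq_mul, halt,
      hL l hl l' hl', hx l hl, hrefl _ _ (hx l' hl')]
    ring
  have h1 := LinearMap.BilinForm.finrank_orthogonal hnd' L
  rw [heq] at h1
  have h2 := Submodule.finrank_le L
  rw [Module.natCard_eq_pow_finrank (K := ZMod p) (V := W),
    Module.natCard_eq_pow_finrank (K := ZMod p) (V := L), ← pow_add]
  congr 1
  omega

end Lagrangian

section Heis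

variable {p : ℕ} [Fact p.Prime] {W : Type u} [AddCommGroup W] [Module (ZMod p) W]
  (B : LinearMap.BilinForm (ZMod p) W)

/-- The Heisenberg group of a bilinear cocycle. -/
@[ext]
structure Heis (B : LinearMap.BilinForm (ZMod p) W) : Type u where
  u : W
  a : ZMod p

variable {B}

instance : Mul (Heis B) := ⟨fun x y => ⟨x.u + y.u, x.a + y.a + B x.u y.u⟩⟩

instance : One (Heis B) := ⟨⟨0, 0⟩⟩

instance : Inv (Heis B) := ⟨fun x => ⟨-x.u, -x.a + B x.u x.u⟩⟩

@[simp] theorem Heis.mul_u (x y : Heis B) : (x * y).u = x.u + y.u := rfl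
@[simp] theorem Heis.mul_a (x y : Heis B) : (x * y).a = x.a + y.a + B x.u y.u := rfl
@[simp] theorem Heis.one_u : (1 : Heis B).u = 0 := rfl
@[simp] theorem Heis.one_a : (1 : Heis B).a = 0 := rfl
@[simp] theorem Heis.inv_u (x : Heis B) : (x⁻¹).u = -x.u := rfl
@[simp] theorem Heis.inv_a (x : Heis B) : (x⁻¹).a = -x.a + B x.u x.u := rfl

instance : Group (Heis B) where
  mul_assoc x y z := by
    refine Heis.ext ?_ ?_ <;> simp [add_assoc]
    ring
  one_mul x := by ext <;> simp
  mul_one x := by ext <;> simp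
  inv_mul_cancel x := by ext <;> simp

/-- As a set, the Heisenberg group is a product. -/
def heisEquiv : Heis B ≃ W × ZMod p where
  toFun x := (x.u, x.a)
  invFun x := ⟨x.1, x.2⟩
  left_inv _ := rfl
  right_inv _ := rfl

instance [Finite W] : Finite (Heis B) := Finite.of_equiv _ heisEquiv.symm

variable {H : Type u} [Group H] (ρ : Representation (ZMod p) H W)

/-- The action of a group of isometries of the cocycle. -/
def heisAct (hB : ∀ g x y, B (ρ g x) (ρ g y) = B x y) : H →* MulAut (Heis B) where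
  toFun g :=
    { toFun := fun x => ⟨ρ g x.u, x.a⟩
      invFun := fun x => ⟨ρ g⁻¹ x.u, x.a⟩
      left_inv := fun x => by
        ext
        · exact (Module.End.mul_apply _ _ _).symm.trans (by rw [← map_mul]; simp)
        · rfl
      right_inv := fun x => by
        ext
        · exact (Module.End.mul_apply _ _ _).symm.trans (by rw [← map_mul]; simp)
        · rfl
      map_mul' := fun x y => by ext <;> simp [hB] }
  map_one' := by ext x <;> simp
  map_mul' g g' := by ext x <;> simp

end Heis

/-- Heisenberg groups give roots for invariant alternating forms. -/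
theorem hasRoot_alt (p : ℕ) [Fact p.Prime] {H : Type u} [Group H] [Finite H]
    {W : Type u} [AddCommGroup W] [Module (ZMod p) W] [Finite W]
    (hpH : ¬ p ∣ Nat.card H) (ρ : Representation (ZMod p) H W)
    (A : LinearMap.BilinForm (ZMod p) W) (halt : ∀ x, A x x = 0)
    (hnd : ∀ x, (∀ y, A x y = 0) → x = 0) (hinv : ∀ g x y, A (ρ g x) (ρ g y) = A x y) :
    HasRoot p (fun (h : H) (w : W) => ρ h w) := by
  classical
  have hp : p.Prime := Fact.out
  haveI := Fintype.ofFinite H
  haveI := Fintype.ofFinite W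
  have hanti : ∀ x y, A x y = -A y x := fun x y => by
    have h1 := halt (x + y)
    simp only [map_add, LinearMap.add_apply, halt, zero_add, add_zero] at h1
    linear_combination h1
  -- an invariant cocycle
  let bas := Module.finBasis (ZMod p) W
  let B₀ : LinearMap.BilinForm (ZMod p) W :=
    bas.constr (ZMod p) fun i => bas.constr (ZMod p) fun j => if i < j then A (bas i) (bas j) else 0
  have hB₀ : ∀ x y, B₀ x y - B₀ y x = A x y := by
    have hij : ∀ i j, B₀ (bas i) (bas j) = if i < j then A (bas i) (bas j) else 0 := fun i j => by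
      rw [show B₀ (bas i) = _ from bas.constr_basis (ZMod p) _ i, bas.constr_basis]
    have key : B₀ - B₀.flip = A := by
      refine LinearMap.BilinForm.ext_basis bas fun i j => ?_
      show B₀ (bas i) (bas j) - B₀ (bas j) (bas i) = A (bas i) (bas j)
      rw [hij, hij]
      rcases lt_trichotomy i j with h | rfl | h
      · rw [if_pos h, if_neg h.not_gt, sub_zero]
      · rw [if_neg (lt_irrefl _), sub_zero, halt]
      · rw [if_pos h, if_neg h.not_gt, zero_sub, hanti (bas i) (bas j)]
    intro x y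
    rw [← key]
    rfl
  let c : ZMod p := (Nat.card H : ZMod p)⁻¹
  have hc : c * (Nat.card H : ZMod p) = 1 :=
    inv_mul_cancel₀ fun h => hpH ((ZMod.natCast_eq_zero_iff _ p).mp h)
  let B : LinearMap.BilinForm (ZMod p) W := c • ∑ g : H, B₀.compl₁₂ (ρ g) (ρ g)
  have hBv : ∀ x y, B x y = c * ∑ g : H, B₀ (ρ g x) (ρ g y) := fun x y => by
    simp [B, LinearMap.sum_apply]
  have hBA : ∀ x y, B x y - B y x = A x y := fun x y => by
    rw [hBv, hBv, ← mul_sub, ← Finset.sum_sub_distrib,
      Finset.sum_congr rfl fun g _ => (hB₀ (ρ g x) (ρ g y)).trans (hinv g x y),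
      Finset.sum_const, Finset.card_univ, ← Nat.card_eq_fintype_card, nsmul_eq_mul, ← mul_assoc,
      hc, one_mul]
  have hB : ∀ g x y, B (ρ g x) (ρ g y) = B x y := fun g x y => by
    rw [hBv, hBv]
    congr 1
    refine Fintype.sum_equiv (Equiv.mulRight g) _ _ fun k => ?_
    simp [map_mul]
  -- the group
  haveI : Fintype (Heis B) := Fintype.ofFinite _
  let φ := heisAct ρ hB
  let z : ZMod p → Heis B := fun a => ⟨0, a⟩
  have hzc : ∀ (a : ZMod p) (x : Heis B), z a * x = x * z a := fun a x => by
    refine Heis.ext ?_ ?_ <;> simp [z, add_comm]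
  have hcomm : ∀ f x : Heis B, f * x * f⁻¹ = z (A f.u x.u) * x := fun f x => by
    rw [mul_inv_eq_iff_eq_mul]
    refine Heis.ext ?_ ?_
    · simp [z, add_comm]
    · simp only [z, Heis.mul_a, Heis.mul_u, map_zero, LinearMap.zero_apply, zero_add]
      linear_combination hBA f.u x.u
  have hzadd : ∀ a a', z (a + a') = z a * z a' := fun a a' => by
    refine Heis.ext ?_ ?_ <;> simp [z]
  -- the character of the Heisenberg group
  haveI : Finite (IrrCharacter (Heis B)) := finite_irrCharacter
  haveI := Fintype.ofFinite (IrrCharacter (Heis B))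
  obtain ⟨θ₀, hθ₀⟩ : ∃ χ : IrrCharacter (Heis B),
      (χ : Heis B → ℂ) (z 1) ≠ (χ : Heis B → ℂ) 1 := by
    by_contra hcon
    push Not at hcon
    have h1 := sum_irr_mul_conj (z 1 : Heis B) 1
    rw [if_neg (fun hconj => by
      rw [isConj_one_left] at hconj
      exact one_ne_zero (congrArg Heis.a hconj : (1 : ZMod p) = 0)), Finset.sum_congr rfl
      fun χ _ => by rw [hcon χ, Complex.mul_conj]] at h1
    have h2 : (0 : ℝ) < ∑ χ : IrrCharacter (Heis B), Complex.normSq ((χ : Heis B → ℂ) 1) :=
      Finset.sum_pos (fun χ _ => Complex.normSq_pos.mpr (IsIrrCharacter.apply_one_ne_zero χ.2))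
        ⟨trivIrr _, Finset.mem_univ _⟩
    exact h2.ne' (by exact_mod_cast h1)
  obtain ⟨θ, hθ⟩ := θ₀
  obtain ⟨d, τ, hτ, hθτ⟩ := id hθ
  have hscal : ∀ a, ∃ r : ℂ, τ (z a) = r • (LinearMap.id : (Fin d → ℂ) →ₗ[ℂ] _) := fun a =>
    exists_smul_of_commute τ _ fun g => by rw [← map_mul, ← map_mul, hzc]
  choose ω hω using hscal
  have hθz : ∀ a x, θ (z a * x) = ω a * θ x := fun a x => by
    simp only [← hθτ, Representation.character, map_mul, hω a, ← Module.End.one_eq_id,
      smul_mul_assoc, one_mul, map_smul, smul_eq_mul]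
  have hd : θ 1 = d := by rw [← hθτ, τ.char_one, Module.finrank_fin_fun]
  have hd0 : θ 1 ≠ 0 := IsIrrCharacter.apply_one_ne_zero hθ
  have hωadd : ∀ a a', ω (a + a') = ω a * ω a' := fun a a' => by
    refine mul_right_cancel₀ hd0 ?_
    rw [mul_assoc, ← hθz, ← hθz, ← hθz, ← mul_assoc, ← hzadd]
  have hω0 : ω 0 = 1 := mul_right_cancel₀ hd0 (by
    rw [← hθz, one_mul, show z 0 = (1 : Heis B) from rfl, one_mul])
  let ωc : AddChar (ZMod p) ℂ := ⟨ω, hω0, hωadd⟩
  have hω1 : ω 1 ≠ 1 := fun h => hθ₀ (by
    have h1 := hθz 1 1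
    rwa [h, one_mul, mul_one] at h1)
  have hne : ∀ a, a ≠ 0 → ω a ≠ 1 := fun a ha h => hω1 (by
    have h1 : ωc ((a⁻¹).val • a) = ω a ^ (a⁻¹).val := AddChar.map_nsmul_eq_pow ωc _ _
    rw [nsmul_eq_mul, ZMod.natCast_zmod_val, inv_mul_cancel₀ ha, h, one_pow] at h1
    exact h1)
  have hωn : ∀ a, ω a * conj (ω a) = 1 := fun a => by
    rw [show ω a = ωc a from rfl, ← AddChar.map_neg_eq_conj, ← AddChar.map_add_eq_mul,
      add_neg_cancel, AddChar.map_zero_eq_one]
  have hθvan : ∀ x : Heis B, x.u ≠ 0 → θ x = 0 := fun x hx => by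
    obtain ⟨y, hy⟩ : ∃ y, A y x.u ≠ 0 := by
      by_contra hcon
      push Not at hcon
      exact hx (hnd _ fun y => by rw [hanti, hcon, neg_zero])
    have h1 := IsCharacter.isClassFunction (IsIrrCharacter.isCharacter hθ) x ⟨y, 0⟩
    rw [hcomm, hθz] at h1
    have h2 : (ω (A y x.u) - 1) * θ x = 0 := by linear_combination h1
    exact (mul_eq_zero.mp h2).resolve_left (sub_ne_zero.mpr (hne _ hy))
  have hθabs : ∀ a, θ (z a) * conj (θ (z a)) = (d : ℂ) ^ 2 := fun a => by
    rw [show z a = z a * 1 from (mul_one _).symm, hθz, hd, map_mul, Complex.conj_natCast]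
    linear_combination (d : ℂ) ^ 2 * hωn a
  have hdsq : d ^ 2 = Nat.card W := by
    have h1 := IsIrrCharacter.classInner_self hθ
    rw [classInner, inv_mul_eq_one₀ natCard_ne_zero_complex, Nat.card_congr heisEquiv, Nat.card_prod,
      Nat.card_zmod, ← Equiv.sum_comp heisEquiv.symm, Fintype.sum_prod_type,
      Finset.sum_eq_single (0 : W) (fun w _ hw => Finset.sum_eq_zero fun a _ => by
        rw [hθvan _ (show (heisEquiv.symm (w, a) : Heis B).u ≠ 0 from hw), zero_mul]) (by simp),
      Finset.sum_congr rfl fun a _ => show θ (heisEquiv.symm ((0 : W), a)) *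
        conj (θ (heisEquiv.symm ((0 : W), a))) = (d : ℂ) ^ 2 from hθabs a,
      Finset.sum_const, Finset.card_univ, ZMod.card,
      nsmul_eq_mul, Nat.cast_mul, mul_comm ((Nat.card W : ℂ))] at h1
    exact_mod_cast (mul_left_cancel₀ (Nat.cast_ne_zero.mpr hp.ne_zero) h1).symm
  obtain ⟨kW, hkW⟩ : ∃ k, Nat.card W = p ^ k :=
    ⟨_, by rw [Module.natCard_eq_pow_finrank (K := ZMod p), Nat.card_zmod]⟩
  obtain ⟨ed, -, hed⟩ := (Nat.dvd_prime_pow hp).mp
    (hkW ▸ hdsq ▸ dvd_pow_self d two_ne_zero : d ∣ p ^ kW)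
  -- extension to the semidirect product
  let N : Subgroup (Heis B ⋊[φ] H) := (SemidirectProduct.inl).range
  haveI hN : N.Normal := by
    show ((SemidirectProduct.inl : Heis B →* Heis B ⋊[φ] H)).range.Normal
    rw [SemidirectProduct.range_inl_eq_ker_rightHom]
    infer_instance
  haveI : Finite (Heis B ⋊[φ] H) := Finite.of_equiv _ SemidirectProduct.equivProd.symm
  haveI := Fintype.ofFinite N
  let eN : Heis B ≃* N := MonoidHom.ofInjective SemidirectProduct.inl_injective
  let θN : N → ℂ := θ ∘ eN.symm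
  have hθN : IsIrrCharacter N θN := IsIrrCharacter.comp_equiv hθ eN.symm
  have hθN1 : θN 1 = d := by simp [θN, hd]
  have hidx : N.index = Nat.card H := by
    have h1 : N = (SemidirectProduct.rightHom : Heis B ⋊[φ] H →* H).ker :=
      SemidirectProduct.range_inl_eq_ker_rightHom
    rw [h1, Subgroup.index_ker, MonoidHom.range_eq_top.mpr SemidirectProduct.rightHom_surjective,
      Subgroup.card_top]
  have hθinv : ∀ (g : Heis B ⋊[φ] H) (n : N),
      θN ⟨g * n * g⁻¹, hN.conj_mem (n : Heis B ⋊[φ] H) n.2 g⟩ = θN n := by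
    intro g n
    obtain ⟨x, rfl⟩ := eN.surjective n
    have h1 : eN.symm ⟨g * (eN x : N) * g⁻¹, hN.conj_mem _ (eN x).2 g⟩ =
        g.left * φ g.right x * g.left⁻¹ := by
      rw [MulEquiv.symm_apply_eq]
      refine Subtype.ext ?_
      show g * SemidirectProduct.inl x * g⁻¹ = SemidirectProduct.inl _
      conv_lhs => rw [← SemidirectProduct.inl_left_mul_inr_right g]
      rw [map_mul, map_mul, map_inv, SemidirectProduct.inl_aut, mul_inv_rev, map_inv]
      group
    simp only [θN, Function.comp_apply, h1, MulEquiv.symm_apply_apply]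
    rw [IsCharacter.isClassFunction (IsIrrCharacter.isCharacter hθ)]
    by_cases hx : x.u = 0
    · congr 1
      refine Heis.ext ?_ rfl
      show ρ g.right x.u = x.u
      rw [hx, map_zero]
    · rw [hθvan x hx, hθvan _ fun h => hx ?_]
      have h2 : ρ g.right⁻¹ (ρ g.right x.u) = 0 := by
        rw [show ρ g.right x.u = 0 from h, map_zero]
      rwa [← Module.End.mul_apply, ← map_mul, inv_mul_cancel, map_one, Module.End.one_apply] at h2
  have hdet := isCharacter_detChar (IsIrrCharacter.isCharacter hθN)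
  obtain ⟨μ, ⟨hμ, hμ1, hμN, -⟩, -⟩ := exists_linear_extension_coprime hdet.1 hdet.2
    (fun g n => by
      let cg : N →* N := MonoidHom.mk'
        (fun m => ⟨g * m * g⁻¹, hN.conj_mem (m : Heis B ⋊[φ] H) m.2 g⟩)
        fun a b => Subtype.ext (by simp [mul_assoc])
      have h1 := congrFun (detChar_comp cg (IsIrrCharacter.isCharacter hθN)) n
      rw [show θN ∘ cg = θN from funext (hθinv g)] at h1
      exact h1.symm) (by
      rw [hidx]
      obtain ⟨ν, hν⟩ := IsCharacter.exists_hom_of_apply_one hdet.1 hdet.2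
      have h1 : orderOf (detChar θN) ∣ p ^ (kW + 1) := by
        refine orderOf_dvd_of_pow_eq_one (funext fun n => ?_)
        have hcN : Nat.card N = p ^ (kW + 1) := by
          rw [← Nat.card_congr eN.toEquiv, Nat.card_congr heisEquiv, Nat.card_prod, Nat.card_zmod,
            hkW, pow_succ]
        rw [Pi.pow_apply, Pi.one_apply, hν, ← Units.val_pow_eq_pow_val, ← map_pow, ← hcN,
          pow_card_eq_one', map_one, Units.val_one]
      exact (Nat.Coprime.pow_right _ ((hp.coprime_iff_not_dvd.mpr hpH).symm)).coprime_dvd_right h1)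
  obtain ⟨χ, hχ, hres⟩ := exists_irr_extension_of_det hθN hθinv hθN1
    (by rw [hidx, hed]; exact Nat.Coprime.pow_right _ (hp.coprime_iff_not_dvd.mpr hpH).symm)
    hμ hμ1 hμN
  let il : Heis B →* Heis B ⋊[φ] H := SemidirectProduct.inl
  let ir : H →* Heis B ⋊[φ] H := SemidirectProduct.inr
  have hχl : ∀ x, χ (il x) = θ x := fun x => by
    have h1 := hres (eN x)
    simp only [θN, Function.comp_apply, MulEquiv.symm_apply_apply] at h1
    exact h1
  have hφz : ∀ g a, φ g (z a) = z a := fun g a => Heis.ext (map_zero (ρ g)) rfl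
  have hconj : ∀ (f x : Heis B) (g : H),
      il f * (il x * ir g) * (il f)⁻¹ = il (f * x * φ g f⁻¹) * ir g := fun f x g => by
    simp only [il, ir, map_mul, SemidirectProduct.inl_aut, map_inv]
    group
  have hχz : ∀ a y, χ (il (z a) * y) = ω a * χ y := by
    intro a y
    obtain ⟨d', σ, hσ, rfl⟩ := id hχ
    obtain ⟨r, hr⟩ := exists_smul_of_commute σ (σ (il (z a))) fun g => by
      rw [← map_mul, ← map_mul]
      congr 1
      refine SemidirectProduct.ext ?_ ?_
      · simp [il, hzc, hφz]
      · simp [il]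
    have h1 : ∀ y, σ.character (il (z a) * y) = r * σ.character y := fun y => by
      simp only [Representation.character, map_mul, hr, ← Module.End.one_eq_id, smul_mul_assoc,
        one_mul, map_smul, smul_eq_mul]
    have h2 : r * θ 1 = ω a * θ 1 := by
      rw [← hθz, ← hχl, ← hχl, ← h1, map_one il, mul_one, mul_one]
    rw [h1, mul_right_cancel₀ hd0 h2]
  have hvan : ∀ (x : Heis B) (g : H) (e : W), ρ g e = e → A e x.u ≠ 0 →
      χ (il x * ir g) = 0 := by
    intro x g e he hne'
    have h1 := IsCharacter.isClassFunction (IsIrrCharacter.isCharacter hχ) (il x * ir g)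
      (il ⟨e, 0⟩)
    have hfix : φ g (⟨e, 0⟩⁻¹ : Heis B) = (⟨e, 0⟩⁻¹ : Heis B) :=
      Heis.ext (show ρ g (-e) = -e by rw [map_neg, he]) rfl
    rw [hconj, hfix, hcomm, map_mul, mul_assoc, hχz] at h1
    have h2 : (ω (A e x.u) - 1) * χ (il x * ir g) = 0 := by linear_combination h1
    exact (mul_eq_zero.mp h2).resolve_left (sub_ne_zero.mpr (hne _ hne'))
  -- the form on the fixed spaces
  have horth : ∀ g, ∀ c' ∈ fixS ρ g, ∀ d' ∈ movS ρ g, A c' d' = 0 := fun g c' hc' d' hd' =>
    orth_fixS_movS ρ g hinv hc' hd'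
  have hndC : ∀ g, ∀ v ∈ fixS ρ g, v ≠ 0 → ∃ e ∈ fixS ρ g, A e v ≠ 0 := by
    intro g v hv hv0
    by_contra hcon
    push Not at hcon
    refine hv0 (hnd v fun w => ?_)
    have hw : w ∈ fixS ρ g ⊔ movS ρ g := by rw [fixS_sup_movS ρ g hpH]; trivial
    obtain ⟨c', hc', d', hd', rfl⟩ := Submodule.mem_sup.mp hw
    rw [map_add, horth g v hv d' hd', hanti v c', hcon c' hc', neg_zero, add_zero]
  set η : H → ℂ := fun g => χ (ir g) with hη
  -- the absolute value of the values on the complement
  have habs : ∀ g, η g * conj (η g) = (Nat.card (fixS ρ g) : ℂ) := by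
    intro g
    haveI := Fintype.ofFinite (Heis B ⋊[φ] H)
    have h1 := congrFun (avgN_mul_conj_self N hχ (by rw [funext hres]; exact hθN)) (ir g)
    rw [avgN, inv_mul_eq_one₀ natCard_ne_zero_complex, ← Nat.card_congr eN.toEquiv,
      Nat.card_congr heisEquiv, Nat.card_prod, Nat.card_zmod] at h1
    have hterm : ∀ x : Heis B, χ (il x * ir g) * conj (χ (il x * ir g)) =
        if x.u ∈ movS ρ g then η g * conj (η g) else 0 := by
      intro x
      have hw : x.u ∈ fixS ρ g ⊔ movS ρ g := by rw [fixS_sup_movS ρ g hpH]; trivial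
      obtain ⟨c', hc', d', ⟨w, hw'⟩, hsum⟩ := Submodule.mem_sup.mp hw
      set x' := (⟨w, 0⟩ : Heis B) * x * φ g (⟨w, 0⟩⁻¹ : Heis B) with hx'def
      have h2 : χ (il x * ir g) = χ (il x' * ir g) := by
        rw [hx'def, ← hconj]
        exact (IsCharacter.isClassFunction (IsIrrCharacter.isCharacter hχ) _ _).symm
      have hu : x'.u = c' := by
        show w + x.u + ρ g (-w) = c'
        rw [← hsum, ← hw', map_neg, LinearMap.sub_apply, Module.End.one_apply]
        abel
      rw [h2]
      by_cases hc0 : c' = 0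
      · rw [if_pos (by rw [← hsum, hc0, zero_add]; exact ⟨w, hw'⟩)]
        have h3 : x' = z x'.a := Heis.ext (hu.trans hc0) rfl
        rw [h3, hχz, map_mul]
        linear_combination η g * conj (η g) * hωn x'.a
      · obtain ⟨e, he, hne'⟩ := hndC g c' hc' hc0
        rw [if_neg fun hmem => hc0 ?_,
          hvan x' g e ((mem_fixS ρ g).mp he) (by rw [hu]; exact hne'), zero_mul]
        refine Submodule.disjoint_def.mp (disjoint_fixS_movS ρ g hpH) c' hc' ?_
        rw [show c' = x.u - d' by rw [← hsum]; abel]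
        exact sub_mem hmem ⟨w, hw'⟩
    rw [← Equiv.sum_comp eN.toEquiv] at h1
    simp only [Pi.mul_apply] at h1
    rw [Finset.sum_congr rfl fun x _ => show
        χ ((eN.toEquiv x : N) * ir g) * conj (χ ((eN.toEquiv x : N) * ir g)) = _ from hterm x,
      ← Equiv.sum_comp heisEquiv.symm, Fintype.sum_prod_type] at h1
    have h2 : ∀ t : ℂ, ∑ w : W, (if w ∈ movS ρ g then t else 0) = (Fintype.card (movS ρ g) : ℂ) * t :=
      fun t => by rw [← Finset.sum_filter, Finset.sum_const, nsmul_eq_mul, ← Fintype.card_subtype]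
    replace h1 : ((Nat.card W * p : ℕ) : ℂ) =
        ∑ w : W, ∑ _a : ZMod p, if w ∈ movS ρ g then η g * conj (η g) else 0 := h1
    rw [Finset.sum_comm, Finset.sum_congr rfl fun a _ => h2 (η g * conj (η g)), Finset.sum_const,
      Finset.card_univ, ZMod.card, nsmul_eq_mul, ← card_fixS_mul_movS ρ g,
      Nat.card_eq_fintype_card (α := movS ρ g)] at h1
    push_cast at h1
    refine mul_left_cancel₀ (mul_ne_zero (Nat.cast_ne_zero.mpr hp.ne_zero : (p : ℂ) ≠ 0)
      (Nat.cast_ne_zero.mpr (Fintype.card_ne_zero (α := movS ρ g)))) ?_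
    linear_combination -h1
  -- integrality
  have hint : ∀ g, ∃ (l : ℕ) (a : ℂ), IsIntegral ℤ a ∧ η g = (p : ℂ) ^ l * a ∧
      Nat.card (fixS ρ g) = p ^ l * p ^ l := by
    intro g
    let AC : LinearMap.BilinForm (ZMod p) (fixS ρ g) :=
      A.compl₁₂ (fixS ρ g).subtype (fixS ρ g).subtype
    obtain ⟨L, hL, hLcard⟩ := exists_lagrangian AC (fun x => halt x) fun x hx => by
      by_contra hx0
      obtain ⟨e, he, hne'⟩ := hndC g x x.2 fun h => hx0 (Subtype.ext h)
      exact hne' (by rw [hanti, show A x e = 0 from hx ⟨e, he⟩, neg_zero])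
    obtain ⟨l, hl⟩ := exists_card_eq_pow (L.map (fixS ρ g).subtype)
    have hlL : Nat.card L = p ^ l := by
      rw [← hl]
      exact Nat.card_congr
        (Submodule.equivMapOfInjective _ Subtype.val_injective L).toEquiv
    set L' := L.map (fixS ρ g).subtype with hL'
    have hL'fix : ∀ w ∈ L', ρ g w = w := fun w hw => by
      obtain ⟨x, -, rfl⟩ := Submodule.mem_map.mp hw
      exact (mem_fixS ρ g).mp x.2
    let M : Subgroup (Heis B) :=
      { carrier := {x | x.u ∈ L'}
        mul_mem' := fun ha hb => L'.add_mem ha hb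
        one_mem' := L'.zero_mem
        inv_mem' := fun ha => L'.neg_mem ha }
    have hMcomm : ∀ a b : M, a * b = b * a := fun a b => by
      obtain ⟨x, hx, hxe⟩ := Submodule.mem_map.mp a.2
      obtain ⟨y, hy, hye⟩ := Submodule.mem_map.mp b.2
      have h0 : A (a : Heis B).u (b : Heis B).u = 0 := by
        rw [← hxe, ← hye]; exact hL x hx y hy
      refine Subtype.ext (Heis.ext ?_ ?_)
      · exact add_comm _ _
      · simp only [Subgroup.coe_mul, Heis.mul_a]
        have h4 := hBA (a : Heis B).u (b : Heis B).u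
        rw [h0] at h4
        linear_combination h4
    let P := Subgroup.zpowers g
    have hfixP : ∀ (k : P) (m : M), φ (k : H) (m : Heis B) = m := fun k m => by
      refine Heis.ext ?_ rfl
      show ρ k (m : Heis B).u = (m : Heis B).u
      obtain ⟨i, hi⟩ := mem_powers_iff_mem_zpowers.mpr k.2
      have hi' : g ^ i = (k : H) := hi
      rw [← hi', map_pow]
      clear hi hi'
      induction i with
      | zero => simp
      | succ i ih => rw [pow_succ', Module.End.mul_apply, ih, hL'fix _ m.2]
    let j : M × P →* Heis B ⋊[φ] H := MonoidHom.mk' (fun x => il x.1 * ir x.2) fun x y => by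
      refine SemidirectProduct.ext ?_ ?_
      · simp [il, ir, hfixP]
      · simp [il, ir]
    haveI := Fintype.ofFinite M
    haveI := Fintype.ofFinite P
    haveI : Finite (IrrCharacter M) := finite_irrCharacter
    haveI := Fintype.ofFinite (IrrCharacter M)
    haveI : Finite (IrrCharacter P) := finite_irrCharacter
    haveI := Fintype.ofFinite (IrrCharacter P)
    let ez : ↥L' × ZMod p ≃ M :=
      { toFun := fun x => ⟨⟨x.1, x.2⟩, x.1.2⟩
        invFun := fun m => (⟨(m : Heis B).u, m.2⟩, (m : Heis B).a)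
        left_inv := fun _ => rfl
        right_inv := fun _ => rfl }
    have hsumM : ∀ F : M → ℂ, (∀ m : M, (m : Heis B).u ≠ 0 → F m = 0) →
        ∑ m, F m = ∑ a : ZMod p, F ⟨z a, L'.zero_mem⟩ := fun F hF => by
      rw [← Equiv.sum_comp ez, Fintype.sum_prod_type, Finset.sum_eq_single (0 : L')
        (fun w _ hw => Finset.sum_eq_zero fun a _ =>
          hF _ fun h => hw (Subtype.ext h)) (by simp)]
      rfl
    obtain ⟨μ0, hμ0⟩ : ∃ μ0 : IrrCharacter M,
        ∀ a, (μ0 : M → ℂ) ⟨z a, L'.zero_mem⟩ = ω a := by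
      have hcM : IsCharacter M (θ ∘ M.subtype) :=
        IsCharacter.comp (IsIrrCharacter.isCharacter hθ) M.subtype
      obtain ⟨μ0, hμ0⟩ : ∃ μ0 : IrrCharacter M, classInner (θ ∘ M.subtype) (μ0 : M → ℂ) ≠ 0 := by
        by_contra hcon
        push Not at hcon
        have h1 := congrFun (eq_sum_classInner (IsCharacter.isClassFunction hcM)) (1 : M)
        rw [Finset.sum_apply, Finset.sum_eq_zero fun χ' _ => by
          rw [Pi.smul_apply, hcon χ', smul_eq_mul, zero_mul]] at h1
        exact hd0 h1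
      obtain ⟨m0, hm0⟩ := IsCharacter.exists_hom_of_apply_one (irr_isCharacter μ0)
        (IsIrrCharacter.apply_one_of_comm hMcomm μ0.2)
      refine ⟨μ0, fun a => ?_⟩
      by_contra hne'
      apply hμ0
      rw [classInner, hsumM _ fun m hm => by
        rw [Function.comp_apply, hθvan (M.subtype m) hm, zero_mul]]
      set F : ZMod p → ℂ := fun b =>
        (θ ∘ M.subtype) ⟨z b, L'.zero_mem⟩ * conj ((μ0 : M → ℂ) ⟨z b, L'.zero_mem⟩) with hF
      set K : ℂ := ω a * conj ((μ0 : M → ℂ) ⟨z a, L'.zero_mem⟩) with hK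
      have hshift : ∑ b, F b = K * ∑ b, F b := by
        conv_lhs => rw [← Equiv.sum_comp (Equiv.addLeft a)]
        rw [Finset.mul_sum]
        refine Finset.sum_congr rfl fun b _ => ?_
        have hzb : (⟨z (a + b), L'.zero_mem⟩ : M) =
            ⟨z a, L'.zero_mem⟩ * ⟨z b, L'.zero_mem⟩ := Subtype.ext (hzadd a b)
        simp only [hF, hK, Equiv.coe_addLeft, hzb, Function.comp_apply, map_mul, Subgroup.coe_subtype,
          hm0, Units.val_mul]
        rw [hzadd, hθz]
        ring
      have hK1 : K ≠ 1 := fun h => hne' (by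
        have hn : conj ((μ0 : M → ℂ) ⟨z a, L'.zero_mem⟩) * (μ0 : M → ℂ) ⟨z a, L'.zero_mem⟩ = 1 := by
          rw [← IsCharacter.apply_inv (irr_isCharacter μ0), hm0]
          simp only [← Units.val_mul, ← map_mul, inv_mul_cancel, map_one, Units.val_one]
        linear_combination ω a * hn - (μ0 : M → ℂ) ⟨z a, L'.zero_mem⟩ * (hK.symm.trans h))
      have h0 : (K - 1) * ∑ b, F b = 0 := by linear_combination -hshift
      rw [(mul_eq_zero.mp h0).resolve_left (sub_ne_zero.mpr hK1), mul_zero]
    have hcomp : IsCharacter P (η ∘ P.subtype) :=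
      IsCharacter.comp (IsIrrCharacter.isCharacter hχ) (ir.comp P.subtype)
    have hdiv : ∀ lam : IrrCharacter P, ∃ n : ℕ,
        classInner (η ∘ P.subtype) (lam : P → ℂ) = (p : ℂ) ^ l * n := by
      intro lam
      obtain ⟨n, hn⟩ := IsCharacter.exists_classInner_nat
        (IsCharacter.comp (IsIrrCharacter.isCharacter hχ) j)
        (IsCharacter.mul (IsCharacter.comp (irr_isCharacter μ0) (MonoidHom.fst M P))
          (IsCharacter.comp (irr_isCharacter lam) (MonoidHom.snd M P)))
      refine ⟨n, ?_⟩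
      have hcM : Nat.card M = p ^ l * p := by
        rw [← Nat.card_congr ez, Nat.card_prod, Nat.card_zmod, hl]
      rw [← hn, classInner, classInner, Nat.card_prod, hcM, Fintype.sum_prod_type_right,
        Finset.mul_sum, Finset.mul_sum, Finset.mul_sum]
      refine Finset.sum_congr rfl fun k _ => ?_
      rw [hsumM _ fun m hm => ?_]
      · have h5 : ∀ a : ZMod p, (χ ∘ j) (⟨z a, L'.zero_mem⟩, k) *
            conj (((μ0 : M → ℂ) ∘ MonoidHom.fst M P * (lam : P → ℂ) ∘ MonoidHom.snd M P)
              (⟨z a, L'.zero_mem⟩, k)) = (η ∘ P.subtype) k * conj ((lam : P → ℂ) k) := by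
          intro a
          simp only [Function.comp_apply, Pi.mul_apply, MonoidHom.coe_fst, MonoidHom.coe_snd, hμ0,
            map_mul, Subgroup.coe_subtype, hη]
          rw [show j (⟨z a, L'.zero_mem⟩, k) = il (z a) * ir k from rfl, hχz]
          linear_combination χ (ir k) * conj ((lam : P → ℂ) k) * hωn a
        rw [Finset.sum_congr rfl fun a _ => h5 a, Finset.sum_const, Finset.card_univ, ZMod.card,
          nsmul_eq_mul]
        push_cast
        field_simp [(Nat.cast_ne_zero.mpr hp.ne_zero : (p : ℂ) ≠ 0)]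
      · obtain ⟨x, hx, hxe⟩ := Submodule.mem_map.mp m.2
        have hu : (m : Heis B).u ∈ fixS ρ g := hxe ▸ x.2
        obtain ⟨e, he, hne'⟩ := hndC g _ hu hm
        rw [Function.comp_apply, show j (m, k) = il m * ir k from rfl, hvan _ _ e ?_ hne', zero_mul]
        obtain ⟨i, hi⟩ := mem_powers_iff_mem_zpowers.mpr k.2
        have hi' : g ^ i = (k : H) := hi
        rw [← hi', map_pow]
        clear hi hi'
        induction i with
        | zero => simp
        | succ i ih => rw [pow_succ', Module.End.mul_apply, ih, (mem_fixS ρ g).mp he]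
    choose n hn using hdiv
    refine ⟨l, ∑ lam : IrrCharacter P, (n lam : ℂ) * (lam : P → ℂ) ⟨g, Subgroup.mem_zpowers g⟩,
      IsIntegral.sum _ fun lam _ => (isIntegral_algebraMap (x := ((n lam : ℕ) : ℤ))).mul
        (IsCharacter.isIntegral (irr_isCharacter lam) _), ?_, ?_⟩
    · have h1 := congrFun (eq_sum_classInner (IsCharacter.isClassFunction hcomp))
        ⟨g, Subgroup.mem_zpowers g⟩
      rw [Finset.sum_apply] at h1
      refine (show η g = (η ∘ P.subtype) ⟨g, Subgroup.mem_zpowers g⟩ from rfl).trans (h1.trans ?_)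
      rw [Finset.mul_sum]
      refine Finset.sum_congr rfl fun lam _ => ?_
      rw [Pi.smul_apply, smul_eq_mul, hn, mul_assoc]
    · rw [hLcard, hlL]
  choose l a hai hηa hCl using hint
  have hη1 : η 1 = d := by
    rw [hη]; simp only [map_one]
    rw [← map_one il, hχl, hd]
  have hle : ∀ g, l g ≤ ed := fun g => by
    have h1 : Nat.card (fixS ρ g) ≤ Nat.card W :=
      Nat.card_le_card_of_injective _ Subtype.val_injective
    rw [hCl, ← hdsq, hed, sq] at h1
    exact (Nat.pow_le_pow_iff_right hp.one_lt).mp (Nat.mul_self_le_mul_self_iff.mp h1)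
  have hpC : (p : ℂ) ≠ 0 := Nat.cast_ne_zero.mpr hp.ne_zero
  have haabs : ∀ g, a g * conj (a g) = 1 := fun g => by
    have h1 := habs g
    rw [hηa, hCl, map_mul, map_pow, Complex.conj_natCast] at h1
    push_cast at h1
    refine mul_left_cancel₀ (mul_ne_zero (pow_ne_zero (l g) hpC) (pow_ne_zero (l g) hpC)) ?_
    linear_combination h1
  let pr : Multiplicative (ZMod p) × H →* Heis B ⋊[φ] H :=
    ir.comp (MonoidHom.snd (Multiplicative (ZMod p)) H)
  refine hasRoot_of_eta p hpH
    (η := χ ∘ pr) (π := (χ ∘ pr) * fun x => conj ((χ ∘ pr) x))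
    (IsCharacter.isGeneralizedCharacter (IsCharacter.comp (IsIrrCharacter.isCharacter hχ) pr))
    (IsGeneralizedCharacter.mul
      (IsCharacter.isGeneralizedCharacter (IsCharacter.comp (IsIrrCharacter.isCharacter hχ) pr))
      (IsGeneralizedCharacter.conjugate
        (IsCharacter.isGeneralizedCharacter (IsCharacter.comp (IsIrrCharacter.isCharacter hχ) pr))))
    (2 * ed) (fun x => ⟨2 * l x.2, Nat.mul_le_mul_left 2 (hle _), ?_⟩)
    (fun s g => (p : ℂ) ^ (ed - l g) * conj (a g)) (fun s _ g => ?_) (fun s _ g => ?_)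
    (fun s _ => ?_) (fun s _ g => ?_) (fun s _ g hmv => ?_)
  · show η x.2 * conj (η x.2) = _
    rw [habs, hCl, ← pow_add, two_mul, Nat.cast_pow]
  · exact (IsIntegral.pow (isIntegral_algebraMap (x := ((p : ℕ) : ℤ))) _).mul
      (by simpa using (hai g).map (Complex.conjAe.toAlgHom.restrictScalars ℤ))
  · show _ * (η g * conj (η g)) = η 1 * conj (η g)
    rw [hη1, hηa, hed, map_mul, map_pow, Complex.conj_natCast]
    push_cast
    have hsplit : (p : ℂ) ^ ed = (p : ℂ) ^ (ed - l g) * (p : ℂ) ^ l g := by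
      rw [← pow_add, Nat.sub_add_cancel (hle g)]
    rw [hsplit]
    linear_combination (p : ℂ) ^ (ed - l g) * (p : ℂ) ^ l g * (p : ℂ) ^ l g * conj (a g) * haabs g
  · have hfix1 : fixS ρ (1 : H) = ⊤ := Submodule.eq_top_iff'.mpr fun w =>
      (mem_fixS ρ 1).mpr (by simp)
    have hl1 : l 1 = ed := by
      have h1 := hCl 1
      rw [hfix1, Nat.card_congr (Submodule.topEquiv (R := ZMod p) (M := W)).toEquiv, ← hdsq, hed,
        sq] at h1
      exact (Nat.pow_right_injective hp.two_le (Nat.mul_self_inj.mp h1)).symm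
    have ha1 : a 1 = 1 := by
      have h1 := hηa 1
      rw [hη1, hl1, hed, Nat.cast_pow] at h1
      exact mul_left_cancel₀ (pow_ne_zero ed hpC) (by rw [mul_one]; exact h1.symm)
    simp [hl1, ha1]
  · have h1 : Complex.normSq (a g) = 1 := by
      have h0 := haabs g
      rw [Complex.mul_conj] at h0
      exact_mod_cast h0
    rw [Complex.normSq_mul, map_pow, Complex.normSq_natCast, Complex.normSq_conj, h1, mul_one,
      card_fix, hCl, ← hdsq, hed]
    push_cast
    rw [← mul_pow, ← pow_add, ← pow_two, ← pow_mul, ← pow_mul]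
    try rw [← pow_add]
    refine le_of_eq ?_
    congr 1
    have := hle g
    omega
  · have hlt : l g < ed := by
      refine lt_of_le_of_ne (hle g) fun h => ?_
      obtain ⟨k, hk⟩ := exists_card_eq_pow (movS ρ g)
      have hk1 := one_le_of_moved ρ g hk hmv
      have h1 := card_fixS_mul_movS ρ g
      rw [hCl, hk, ← hdsq, hed, h, sq, ← pow_add, ← pow_add] at h1
      have := Nat.pow_right_injective hp.two_le h1
      omega
    refine Rad.mul_right ?_ (by simpa using (hai g).map (Complex.conjAe.toAlgHom.restrictScalars ℤ))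
    rw [← Nat.sub_add_cancel (show 1 ≤ ed - l g by omega), pow_succ]
    exact Rad.natCast_self.mul_left (IsIntegral.pow (isIntegral_algebraMap (x := ((p : ℕ) : ℤ))) _)

end Cfsg.Agent.Lib.Characters.RealVector
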