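import Cfsg.Agent.Lib.Characters.RealVector.Pieces
import Cfsg.Agent.Lib.Characters.KGVAbelian

/-!
# The real-vector criterion

The class number of a coprime affine group is at most the order of the module as soon as some vector
is real.
-/

namespace Cfsg.Agent.Lib.Characters.RealVector

open scoped ComplexConjugate
open Cfsg.Agent.Lib.Characters Cfsg

set_option autoImplicit false
set_option linter.unusedSectionVars false
set_option linter.unusedVariables false
set_option linter.style.haveILetI false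

universe u

/-- Integral Fourier coefficients of a virtual character of a cyclic group times a group. -/
theorem exists_cycVec_coeff (p : ℕ) [Fact p.Prime] {H : Type u} [Group H] [Fintype H]
    {F : Multiplicative (ZMod p) × H → ℂ} (hF : IsGeneralizedCharacter _ F) {ψ : H → ℂ}
    (hψ : IsCharacter H ψ) : ∃ m : ZMod p → ℤ, ∀ s : ZMod p,
      (Nat.card H : ℂ)⁻¹ * ∑ h : H, F (el p s h) * conj (ψ h) =
        ∑ j, (m j : ℂ) * ZMod.stdAddChar (s * j) := by
  classical
  have hp : p.Prime := Fact.out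
  choose m hm using fun j : ZMod p => IsGeneralizedCharacter.exists_classInner_int hF
    (IsCharacter.isGeneralizedCharacter (isCharacter_twist p j hψ))
  refine ⟨m, fun s => ?_⟩
  simp only [← hm, classInner, Finset.mul_sum, Finset.sum_mul, Nat.card_prod, Nat.cast_mul, mul_inv,
    Fintype.sum_prod_type]
  conv_rhs => rw [Finset.sum_comm]
  conv_rhs => arg 2; ext r; rw [Finset.sum_comm]
  conv_rhs => rw [Finset.sum_comm]
  refine Finset.sum_congr rfl fun h _ => ?_
  have hterm : ∀ (j : ZMod p) (r : Multiplicative (ZMod p)),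
      (Nat.card (Multiplicative (ZMod p)) : ℂ)⁻¹ * (Nat.card H : ℂ)⁻¹ *
        (F (r, h) * conj (twist p j ψ (r, h))) * ZMod.stdAddChar (s * j) =
      (p : ℂ)⁻¹ * ((Nat.card H : ℂ)⁻¹ * (F (r, h) * conj (ψ h))) *
        ZMod.stdAddChar (j * (s - Multiplicative.toAdd r)) := by
    intro j r
    simp only [twist, map_mul]
    rw [← AddChar.map_neg_eq_conj, Nat.card_eq_fintype_card, Fintype.card_multiplicative,
      ZMod.card, mul_sub, sub_eq_add_neg, AddChar.map_add_eq_mul, mul_comm s j,
      mul_comm (Multiplicative.toAdd r) j]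
    ring
  rw [Finset.sum_congr rfl fun r _ => Finset.sum_congr rfl fun j _ => hterm j r]
  simp only [← Finset.mul_sum]
  rw [Finset.sum_eq_single (Multiplicative.ofAdd s)]
  · rw [toAdd_ofAdd, sub_self]
    simp only [mul_zero, AddChar.map_zero_eq_one, Finset.sum_const, Finset.card_univ, ZMod.card,
      nsmul_eq_mul, mul_one]
    field_simp [(Nat.cast_ne_zero.mpr hp.ne_zero : (p : ℂ) ≠ 0)]
  · intro r _ hr
    rw [AddChar.sum_mulShift _ (ZMod.isPrimitive_stdAddChar p), if_neg, Nat.cast_zero, mul_zero]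
    exact fun h => hr (by rw [sub_eq_zero.mp h]; rfl)
  · simp

/-- The bound from a virtual character with small values on a section. -/
theorem card_conjClasses_le_of_root {X : Type u} [Group X] [Finite X] (p : ℕ) [Fact p.Prime]
    (V : Subgroup X) [V.Normal] (hVexp : ∀ v ∈ V, v ^ p = 1) (hidx : ¬ p ∣ V.index)
    (hself : Subgroup.centralizer (V : Set X) = V) (G : Subgroup X)
    (hGV : Subgroup.IsComplement' V G) (v : X) (hv : v ∈ V)
    (Θ : Multiplicative (ZMod p) × ↥(G ⊓ Subgroup.centralizer ({v} : Set X)) → ℂ)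
    (hΘ : IsGeneralizedCharacter _ Θ) (hΘ1 : ∀ s : ZMod p, s ≠ 0 → Θ (el p s 1) = 1)
    (hΘrad : ∀ s : ZMod p, s ≠ 0 → ∀ h, h ≠ 1 → Rad p (Θ (el p s h)))
    (hΘb : ∀ s : ZMod p, s ≠ 0 → ∀ h, Complex.normSq (Θ (el p s h)) *
      (Nat.card {x : V // (h : X) * (x : X) * (h : X)⁻¹ = x} : ℝ) ≤ Nat.card V) :
    Nat.card (ConjClasses X) ≤ Nat.card V := by
  classical
  have hp : p.Prime := Fact.out
  let A : Subgroup X := G ⊓ Subgroup.centralizer ({v} : Set X)
  haveI := Fintype.ofFinite X
  haveI : Fintype A := Fintype.ofFinite _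
  haveI := Fintype.ofFinite (IrrCharacter X)
  haveI : Finite (IrrCharacter A) := finite_irrCharacter
  haveI := Fintype.ofFinite (IrrCharacter A)
  have hVcomm : ∀ a ∈ V, ∀ b ∈ V, a * b = b * a := fun a ha b hb =>
    (Subgroup.mem_centralizer_iff.mp (hself.ge hb) a ha)
  have hGidx : Nat.card G = V.index := by
    have h1 := hGV.card_mul
    rw [← V.card_mul_index] at h1
    exact Nat.eq_of_mul_eq_mul_left Nat.card_pos h1
  have hAp : ¬ p ∣ Nat.card A := fun h =>
    hidx (hGidx ▸ h.trans (Subgroup.card_dvd_of_le inf_le_left))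
  have hvp : v ^ p = 1 := hVexp v hv
  let ι₀ : Multiplicative (ZMod p) × A →* X := MonoidHom.mk'
    (fun x => v ^ (Multiplicative.toAdd x.1).val * (x.2 : X)) fun x y => by
    show v ^ (Multiplicative.toAdd x.1 + Multiplicative.toAdd y.1).val * ((x.2 : X) * y.2) = _
    rw [ZMod.val_add, ← pow_eq_pow_mod _ hvp, pow_add]
    have hc : Commute (v ^ (Multiplicative.toAdd y.1).val) (x.2 : X) :=
      Commute.pow_left (show Commute v (x.2 : X) from
        (Subgroup.mem_centralizer_singleton_iff.mp x.2.2.2).symm) _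
    rw [mul_assoc, ← mul_assoc _ (x.2 : X), hc.eq]
    group
  have hι₀ : ∀ s a, ι₀ (el p s a) = v ^ s.val * (a : X) := fun _ _ => rfl
  let f : IrrCharacter X → Multiplicative (ZMod p) × A → ℂ := fun χ => ((χ : X → ℂ) ∘ ι₀) * Θ
  have hf : ∀ χ, IsGeneralizedCharacter _ (f χ) := fun χ => IsGeneralizedCharacter.mul
    (IsCharacter.isGeneralizedCharacter (IsCharacter.comp (irr_isCharacter χ) ι₀)) hΘ
  let c : IrrCharacter X → IrrCharacter A → {t : ZMod p // t ≠ 0} → ℂ := fun χ ψ t =>
    (Nat.card A : ℂ)⁻¹ * ∑ a : A, f χ (el p (t : ZMod p) a) * conj ((ψ : A → ℂ) a)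
  -- each pair of characters gives a non-zero cyclotomic vector
  have hlow : ∀ χ ψ, ((p : ℝ) - 1) ≤ sqLen (c χ ψ) := by
    intro χ ψ
    obtain ⟨m, hm⟩ := exists_cycVec_coeff p (hf χ) (irr_isCharacter ψ)
    have heq : c χ ψ = cycVec p m := funext fun t => hm t
    rw [heq]
    refine le_sqLen_cycVec p m fun h0 => ?_
    let t1 : {t : ZMod p // t ≠ 0} := ⟨1, one_ne_zero⟩
    have hS : ∑ a : A, f χ (el p 1 a) * conj ((ψ : A → ℂ) a) = 0 := by
      have h1 := congrFun (heq.trans h0) t1
      exact (mul_eq_zero.mp h1).resolve_left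
        (inv_ne_zero (Nat.cast_ne_zero.mpr Nat.card_pos.ne'))
    have hint : ∀ a, IsIntegral ℤ (conj ((ψ : A → ℂ) a)) := fun a => by
      rw [← IsCharacter.apply_inv (irr_isCharacter ψ)]
      exact IsCharacter.isIntegral (irr_isCharacter ψ) _
    have hrest : Rad p (f χ (el p 1 1) * conj ((ψ : A → ℂ) 1)) := by
      rw [← Finset.add_sum_erase Finset.univ _ (Finset.mem_univ (1 : A)), add_eq_zero_iff_eq_neg]
        at hS
      rw [hS]
      refine (Rad.sum _ fun a ha => ?_).neg
      exact Rad.mul_right (Rad.mul_left (IsCharacter.isIntegral (irr_isCharacter χ) _)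
        (hΘrad 1 one_ne_zero a (Finset.ne_of_mem_erase ha))) (hint a)
    -- the value at `v` is congruent to the degree
    let pr : Multiplicative (ZMod p) × A →* Multiplicative (ZMod p) × A :=
      (MonoidHom.fst _ _).prod 1
    obtain ⟨m', hm'⟩ := exists_cycVec_coeff p (IsCharacter.isGeneralizedCharacter
      (IsCharacter.comp (IsCharacter.comp (irr_isCharacter χ) ι₀) pr)) (isCharacter_one (G := A))
    have hval : ∀ s : ZMod p, (χ : X → ℂ) (v ^ s.val) = ∑ j, (m' j : ℂ) * ZMod.stdAddChar (s * j) :=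
      fun s => by
      rw [← hm']
      simp only [Function.comp_apply, show ∀ a : A, pr (el p s a) = el p s 1 from fun _ => rfl, hι₀,
        OneMemClass.coe_one, mul_one, map_one, Finset.sum_const, Finset.card_univ, nsmul_eq_mul]
      rw [Nat.card_eq_fintype_card, ← mul_assoc,
        inv_mul_cancel₀ (Nat.cast_ne_zero.mpr Fintype.card_ne_zero), one_mul]
    have hdiff : Rad p ((χ : X → ℂ) v - (χ : X → ℂ) 1) := by
      have h1 := hval 1
      have h2 := hval 0
      rw [ZMod.val_one, pow_one] at h1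
      rw [ZMod.val_zero, pow_zero] at h2
      rw [h1, h2, ← Finset.sum_sub_distrib]
      refine Rad.sum _ fun j _ => ?_
      rw [zero_mul, AddChar.map_zero_eq_one, ← mul_sub]
      exact (rad_stdAddChar_sub_one p _).mul_left (isIntegral_algebraMap (x := m' j))
    have hf1 : f χ (el p 1 1) = (χ : X → ℂ) v := by
      simp only [f, Pi.mul_apply, Function.comp_apply, hι₀, hΘ1 1 one_ne_zero, ZMod.val_one,
        pow_one, OneMemClass.coe_one, mul_one]
    obtain ⟨d, hd, hχ1⟩ := IsIrrCharacter.exists_apply_one χ.2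
    obtain ⟨e, he, hψ1⟩ := IsIrrCharacter.exists_apply_one ψ.2
    have hrad : Rad p (((d * e : ℕ) : ℤ) : ℂ) := by
      have h1 := hrest.sub (hdiff.mul_right (hint 1))
      rw [hf1, hψ1, Complex.conj_natCast] at h1
      rw [hχ1] at h1
      convert h1 using 1
      push_cast
      ring
    have hdvd := Int.natCast_dvd_natCast.mp hrad.dvd_of_int
    rcases (Nat.Prime.dvd_mul hp).mp hdvd with h | h
    · exact hidx (h.trans (IsIrrCharacter.degree_dvd_index_of_abelian χ.2 V hVcomm hχ1))
    · refine hAp (h.trans ?_)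
      have h2 := IsIrrCharacter.degree_dvd_index_of_abelian ψ.2 ⊥ (fun a ha b hb => by
        simp [Subgroup.mem_bot.mp ha, Subgroup.mem_bot.mp hb]) hψ1
      rwa [Subgroup.index_bot] at h2
  -- Parseval on the stabilizer
  have hpars : ∀ χ t, ∑ ψ : IrrCharacter A, Complex.normSq (c χ ψ t) =
      (Nat.card A : ℝ)⁻¹ * ∑ a : A, Complex.normSq (f χ (el p (t : ZMod p) a)) := by
    intro χ t
    have hg : IsClassFunction A (fun a => f χ (el p (t : ZMod p) a)) := fun a b => by
      have h1 := IsGeneralizedCharacter.isClassFunction (hf χ) (el p (t : ZMod p) a) (1, b)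
      simpa [el] using h1
    have h1 := classInner_eq_sum_irr hg hg
    apply Complex.ofReal_injective
    push_cast
    simp only [← Complex.mul_conj]
    exact h1.symm
  have hone : ∀ χ, (Fintype.card (IrrCharacter A) : ℝ) * ((p : ℝ) - 1) * Nat.card A ≤
      ∑ t : {t : ZMod p // t ≠ 0}, ∑ a : A, Complex.normSq (f χ (el p (t : ZMod p) a)) := by
    intro χ
    have h1 : (Fintype.card (IrrCharacter A) : ℝ) * ((p : ℝ) - 1) ≤
        ∑ ψ : IrrCharacter A, sqLen (c χ ψ) := by
      rw [← nsmul_eq_mul, ← Finset.card_univ, ← Finset.sum_const]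
      exact Finset.sum_le_sum fun ψ _ => hlow χ ψ
    simp only [sqLen] at h1
    rw [Finset.sum_comm, Finset.sum_congr rfl fun t _ => hpars χ t, ← Finset.mul_sum,
      inv_mul_eq_div, le_div_iff₀ (Nat.cast_pos.mpr Nat.card_pos)] at h1
    exact h1
  -- centralizers of the section elements
  have hcent : ∀ (t : {t : ZMod p // t ≠ 0}) (a : A),
      Nat.card (Subgroup.centralizer ({v ^ (t : ZMod p).val * (a : X)} : Set X)) ≤
        Nat.card {x : V // (a : X) * (x : X) * (a : X)⁻¹ = x} *
          Nat.card (Subgroup.centralizer ({a} : Set A)) := by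
    intro t a
    set u := v ^ (t : ZMod p).val with hu
    have huv : Commute v (a : X) := (Subgroup.mem_centralizer_singleton_iff.mp a.2.2).symm
    have hua : Commute u (a : X) := huv.pow_left _
    let g : {x : V // (a : X) * (x : X) * (a : X)⁻¹ = x} ×
        Subgroup.centralizer ({a} : Set A) → X := fun x => ((x.1.1 : V) : X) * ((x.2 : A) : X)
    have hsub : ∀ z ∈ Subgroup.centralizer ({u * (a : X)} : Set X), z ∈ Set.range g := by
      intro z hz
      have hcomm : Commute z (u * (a : X)) := Subgroup.mem_centralizer_singleton_iff.mp hz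
      have hza : Commute z (a : X) := by
        have h1 : Commute z ((a : X) ^ p) := by
          have := hcomm.pow_right p
          rwa [hua.mul_pow, show u ^ p = 1 by rw [hu, ← pow_mul, mul_comm, pow_mul, hvp, one_pow],
            one_mul] at this
        obtain ⟨r, hr⟩ := exists_pow_eq_self_of_coprime (x := a)
          (n := p) ((hp.coprime_iff_not_dvd.mpr fun h => hAp (h.trans (orderOf_dvd_natCard a))))
        have h2 := h1.pow_right r
        rwa [show ((a : X) ^ p) ^ r = a by exact_mod_cast congrArg Subtype.val hr] at h2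
      have hzu : Commute z u := by
        have h3 := hcomm.mul_right hza.inv_right
        rwa [mul_inv_cancel_right] at h3
      have hzv : Commute z v := by
        have hcop : p.Coprime (t : ZMod p).val := hp.coprime_iff_not_dvd.mpr fun h => t.2 (by
          rw [← ZMod.natCast_zmod_val (t : ZMod p)]
          exact ((ZMod.natCast_eq_zero_iff _ p).mpr h) : (t : ZMod p) = 0)
        obtain ⟨r, hr⟩ := exists_pow_eq_self_of_coprime (x := v) (n := (t : ZMod p).val)
          ((Nat.Coprime.coprime_dvd_right (orderOf_dvd_of_pow_eq_one hvp) hcop.symm))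
        have h4 := hzu.pow_right r
        rwa [hu, hr] at h4
      obtain ⟨⟨x, b⟩, hxb⟩ := hGV.2 z
      simp only at hxb
      have hxv : Commute (x : X) v := hVcomm x x.2 v hv
      have hbv : Commute (b : X) v := by
        have h5 : (b : X) = (x : X)⁻¹ * z := by rw [← hxb, inv_mul_cancel_left]
        rw [h5]
        exact hxv.inv_left.mul_left hzv
      have hbA : (b : X) ∈ A := ⟨b.2, Subgroup.mem_centralizer_singleton_iff.mpr hbv.eq⟩
      have hxa' : (a : X) * x * (a : X)⁻¹ ∈ V := Subgroup.Normal.conj_mem inferInstance _ x.2 _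
      have huniq := hGV.1 (a₁ := (⟨(a : X) * x * (a : X)⁻¹, hxa'⟩,
          ⟨(a : X) * b * (a : X)⁻¹, G.mul_mem (G.mul_mem a.2.1 b.2) (G.inv_mem a.2.1)⟩))
        (a₂ := (x, b)) (by
          show (a : X) * x * (a : X)⁻¹ * ((a : X) * b * (a : X)⁻¹) = (x : X) * b
          rw [show (a : X) * x * (a : X)⁻¹ * ((a : X) * b * (a : X)⁻¹) =
            (a : X) * ((x : X) * b) * (a : X)⁻¹ by group, hxb, mul_inv_eq_iff_eq_mul]
          exact hza.eq.symm)
      have hx1 : (a : X) * x * (a : X)⁻¹ = x := congrArg Subtype.val (congrArg Prod.fst huniq)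
      have hb1 : (a : X) * b * (a : X)⁻¹ = b := congrArg Subtype.val (congrArg Prod.snd huniq)
      refine ⟨(⟨⟨x, x.2⟩, hx1⟩, ⟨⟨b, hbA⟩, Subgroup.mem_centralizer_singleton_iff.mpr ?_⟩), hxb⟩
      exact Subtype.ext (mul_inv_eq_iff_eq_mul.mp hb1).symm
    calc Nat.card (Subgroup.centralizer ({u * (a : X)} : Set X))
        ≤ Nat.card (Set.range g) := Nat.card_le_card_of_injective
          (fun z => ⟨(z : X), hsub z z.2⟩) fun z z' h =>
            Subtype.ext (congrArg (fun y : Set.range g => (y : X)) h)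
      _ ≤ _ := (Finite.card_range_le g).trans (Nat.card_prod _ _).le
  have hsumA : ∑ a : A, (Nat.card (Subgroup.centralizer ({a} : Set A)) : ℝ) =
      (Nat.card A : ℝ) * Fintype.card (IrrCharacter A) := by
    have h1 : ∑ a : A, (Nat.card (Subgroup.centralizer ({a} : Set A)) : ℂ) =
        (Nat.card A : ℂ) * Fintype.card (IrrCharacter A) := by
      have h2 : ∀ a : A, (Nat.card (Subgroup.centralizer ({a} : Set A)) : ℂ) =
          ∑ ψ : IrrCharacter A, (ψ : A → ℂ) a * conj ((ψ : A → ℂ) a) := fun a => by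
        rw [sum_irr_mul_conj, if_pos (IsConj.refl a)]
      rw [Finset.sum_congr rfl fun a _ => h2 a, Finset.sum_comm]
      have h3 : ∀ ψ : IrrCharacter A, ∑ a : A, (ψ : A → ℂ) a * conj ((ψ : A → ℂ) a) =
          (Nat.card A : ℂ) := fun ψ => by
        have h4 := IsIrrCharacter.classInner_self ψ.2
        rw [classInner, inv_mul_eq_one₀ natCard_ne_zero_complex] at h4
        exact h4.symm
      rw [Finset.sum_congr rfl fun ψ _ => h3 ψ, Finset.sum_const, Finset.card_univ, nsmul_eq_mul,
        mul_comm]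
    exact_mod_cast h1
  have hT : (Fintype.card {t : ZMod p // t ≠ 0} : ℝ) = (p : ℝ) - 1 := by
    rw [Fintype.card_subtype_compl, ZMod.card, Fintype.card_subtype_eq,
      Nat.cast_sub hp.one_le, Nat.cast_one]
  have htot : ∑ χ : IrrCharacter X, ∑ t : {t : ZMod p // t ≠ 0},
      ∑ a : A, Complex.normSq (f χ (el p (t : ZMod p) a)) ≤
      ((p : ℝ) - 1) * ((Nat.card V : ℝ) * ((Nat.card A : ℝ) * Fintype.card (IrrCharacter A))) := by
    rw [Finset.sum_comm, ← hT, ← nsmul_eq_mul, ← Finset.card_univ, ← Finset.sum_const]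
    refine Finset.sum_le_sum fun t _ => ?_
    rw [Finset.sum_comm, ← hsumA, Finset.mul_sum]
    refine Finset.sum_le_sum fun a _ => ?_
    have hsum : ∑ χ : IrrCharacter X, Complex.normSq ((χ : X → ℂ) (v ^ (t : ZMod p).val * (a : X))) =
        (Nat.card (Subgroup.centralizer ({v ^ (t : ZMod p).val * (a : X)} : Set X)) : ℝ) := by
      apply Complex.ofReal_injective
      push_cast
      simp only [← Complex.mul_conj]
      rw [sum_irr_mul_conj, if_pos (IsConj.refl _)]
    simp only [f, Pi.mul_apply, Function.comp_apply, hι₀, Complex.normSq_mul]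
    rw [← Finset.sum_mul, hsum]
    calc (Nat.card (Subgroup.centralizer ({v ^ (t : ZMod p).val * (a : X)} : Set X)) : ℝ) *
          Complex.normSq (Θ (el p t a))
        ≤ ((Nat.card {x : V // (a : X) * (x : X) * (a : X)⁻¹ = x} : ℝ) *
            Nat.card (Subgroup.centralizer ({a} : Set A))) * Complex.normSq (Θ (el p t a)) := by
          refine mul_le_mul_of_nonneg_right ?_ (Complex.normSq_nonneg _)
          exact_mod_cast hcent t a
      _ = (Complex.normSq (Θ (el p t a)) * Nat.card {x : V // (a : X) * (x : X) * (a : X)⁻¹ = x}) *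
            Nat.card (Subgroup.centralizer ({a} : Set A)) := by ring
      _ ≤ _ := mul_le_mul_of_nonneg_right (hΘb t t.2 a) (Nat.cast_nonneg _)
  have hsum2 : (Fintype.card (IrrCharacter X) : ℝ) *
      ((Fintype.card (IrrCharacter A) : ℝ) * ((p : ℝ) - 1) * Nat.card A) ≤
      ∑ χ : IrrCharacter X, ∑ t : {t : ZMod p // t ≠ 0},
        ∑ a : A, Complex.normSq (f χ (el p (t : ZMod p) a)) := by
    rw [← nsmul_eq_mul, ← Finset.card_univ, ← Finset.sum_const]
    exact Finset.sum_le_sum fun χ _ => hone χ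
  have hfinal := hsum2.trans htot
  have hpos : (0 : ℝ) < (Fintype.card (IrrCharacter A) : ℝ) * ((p : ℝ) - 1) * Nat.card A :=
    mul_pos (mul_pos (Nat.cast_pos.mpr (Fintype.card_pos_iff.mpr ⟨trivIrr _⟩))
      (sub_pos.mpr (by exact_mod_cast hp.one_lt))) (Nat.cast_pos.mpr Nat.card_pos)
  rw [← card_irrCharacter, Nat.card_eq_fintype_card]
  have h5 : (Fintype.card (IrrCharacter X) : ℝ) ≤ Nat.card V :=
    le_of_mul_le_mul_right (hfinal.trans (le_of_eq (by ring))) hpos
  exact_mod_cast h5

/-- A root for a faithful action on an elementary abelian group with an invariant pairing. -/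
theorem exists_root_of_commGroup (p : ℕ) [Fact p.Prime] {A : Type u} [Group A] [Finite A]
    {T : Type u} [CommGroup T] [Finite T] [Module (ZMod p) (Additive T)] (hpA : ¬ p ∣ Nat.card A)
    (α : A →* MulAut T) (hfaith : ∀ h, (∀ x, α h x = x) → h = 1) (β : T → T → ZMod p)
    (hl : ∀ x y z, β (x * y) z = β x z + β y z) (hr : ∀ x y z, β x (y * z) = β x y + β x z)
    (hinv : ∀ h x y, β (α h x) (α h y) = β x y) (hnd : ∀ x, (∀ y, β x y = 0) → x = 1) :
    ∃ Θ : Multiplicative (ZMod p) × A → ℂ, IsGeneralizedCharacter _ Θ ∧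
      ∀ s : ZMod p, s ≠ 0 → Θ (el p s 1) = 1 ∧ ∀ h,
        (h ≠ 1 → Rad p (Θ (el p s h))) ∧ Complex.normSq (Θ (el p s h)) ≤
          (Nat.card (Set.range fun x : T => α h x * x⁻¹) : ℝ) := by
  classical
  haveI : Finite (Additive T) := inferInstanceAs (Finite T)
  let ρ₀ : A →* Module.End (ZMod p) (Additive T) :=
    { toFun := fun h =>
        { toFun := fun x => Additive.ofMul (α h (Additive.toMul x))
          map_add' := fun x y => by simp
          map_smul' := fun c x => ZMod.map_smul (MonoidHom.toAdditive (α h).toMonoidHom) c x }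
      map_one' := LinearMap.ext fun x => by simp
      map_mul' := fun g h => LinearMap.ext fun x => by simp; rfl }
  let ρ : Representation (ZMod p) A (Additive T) := ρ₀
  let b : LinearMap.BilinForm (ZMod p) (Additive T) :=
    LinearMap.mk₂ (ZMod p) (fun x y => β (Additive.toMul x) (Additive.toMul y))
      (fun x y z => hl _ _ _)
      (fun c x z => ZMod.map_smul (AddMonoidHom.mk'
        (fun x : Additive T => β (Additive.toMul x) (Additive.toMul z)) fun x y => hl _ _ _) c x)
      (fun x y z => hr _ _ _)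
      (fun c x z => ZMod.map_smul (AddMonoidHom.mk'
        (fun z : Additive T => β (Additive.toMul x) (Additive.toMul z)) fun x y => hr _ _ _) c z)
  obtain ⟨S, hSfaith, Θ, hΘ, hb⟩ := exists_faithful_root p hpA ρ b
    (fun x hx => Additive.toMul.injective (hnd _ fun y => hx (Additive.ofMul y)))
    (fun g x y => hinv g _ _)
    (fun h hh => hfaith h fun x => congrArg Additive.toMul (hh (Additive.ofMul x)))
  refine ⟨Θ, hΘ, fun s hs => ⟨(hb s hs).1, fun h => ⟨fun hh => ?_, ?_⟩⟩⟩
  · refine ((hb s hs).2 h).2 ?_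
    by_contra hcon
    simp only [not_exists, not_not] at hcon
    exact hh (hSfaith h fun x hx => congrArg Subtype.val (hcon ⟨x, hx⟩))
  · have h1 := ((hb s hs).2 h).1
    simp only [card_fix] at h1
    rw [← card_fixS_mul_movS S.toRepresentation h, Nat.cast_mul,
      mul_comm ((Nat.card (fixS S.toRepresentation h) : ℝ))] at h1
    refine (le_of_mul_le_mul_right h1 (Nat.cast_pos.mpr Nat.card_pos)).trans (Nat.cast_le.mpr ?_)
    refine Nat.card_le_card_of_injective
      (fun w => ⟨Additive.toMul ((w.1 : S.toSubmodule) : Additive T), ?_⟩) fun w w' e =>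
        Subtype.ext (Subtype.ext (Additive.toMul.injective (congrArg Subtype.val e :)))
    obtain ⟨w₀, hw₀⟩ := w.2
    refine ⟨Additive.toMul (w₀ : Additive T), ?_⟩
    rw [← hw₀]
    exact (div_eq_mul_inv _ _).symm

/-- The real-vector criterion for a non-trivial vector. -/
theorem card_conjClasses_le_of_real {X : Type u} [Group X] [Finite X] (p : ℕ) [Fact p.Prime]
    (V : Subgroup X) [V.Normal] (hVexp : ∀ v ∈ V, v ^ p = 1) (hidx : ¬ p ∣ V.index)
    (hself : Subgroup.centralizer (V : Set X) = V) (G : Subgroup X)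
    (hGV : Subgroup.IsComplement' V G) (v : X) (hv : v ∈ V) (U : Subgroup X) (hUV : U ≤ V)
    (hUinv : ∀ h ∈ G, h * v * h⁻¹ = v → ∀ u ∈ U, h * u * h⁻¹ ∈ U)
    (hUfaith : ∀ h ∈ G, h * v * h⁻¹ = v → (∀ u ∈ U, h * u * h⁻¹ = u) → h = 1)
    (β : X → X → ZMod p)
    (hβl : ∀ u ∈ U, ∀ u' ∈ U, ∀ w ∈ U, β (u * u') w = β u w + β u' w)
    (hβr : ∀ u ∈ U, ∀ w ∈ U, ∀ w' ∈ U, β u (w * w') = β u w + β u w')
    (hβinv : ∀ h ∈ G, h * v * h⁻¹ = v → ∀ u ∈ U, ∀ w ∈ U,
      β (h * u * h⁻¹) (h * w * h⁻¹) = β u w)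
    (hβnd : ∀ u ∈ U, (∀ w ∈ U, β u w = 0) → u = 1) :
    Nat.card (ConjClasses X) ≤ Nat.card V := by
  classical
  have hp : p.Prime := Fact.out
  let A : Subgroup X := G ⊓ Subgroup.centralizer ({v} : Set X)
  have hst : ∀ h : A, (h : X) * v * (h : X)⁻¹ = v := fun h => by
    rw [mul_inv_eq_iff_eq_mul]
    exact Subgroup.mem_centralizer_singleton_iff.mp h.2.2
  have hGidx : Nat.card G = V.index := by
    have h1 := hGV.card_mul
    rw [← V.card_mul_index] at h1
    exact Nat.eq_of_mul_eq_mul_left Nat.card_pos h1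
  have hAp : ¬ p ∣ Nat.card A := fun h =>
    hidx (hGidx ▸ h.trans (Subgroup.card_dvd_of_le inf_le_left))
  have hVcomm : ∀ a ∈ V, ∀ b ∈ V, a * b = b * a := fun a ha b hb =>
    (Subgroup.mem_centralizer_iff.mp (hself.ge hb) a ha)
  letI : CommGroup U :=
    { (inferInstance : Group U) with
      mul_comm := fun a b => Subtype.ext (hVcomm a (hUV a.2) b (hUV b.2)) }
  let cj : A → MulAut U := fun h =>
    { toFun := fun x => ⟨(h : X) * x * (h : X)⁻¹, hUinv h h.2.1 (hst h) _ x.2⟩
      invFun := fun x => ⟨((h⁻¹ : A) : X) * x * ((h⁻¹ : A) : X)⁻¹,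
        hUinv _ (h⁻¹).2.1 (hst _) _ x.2⟩
      left_inv := fun x => Subtype.ext (by simp [mul_assoc])
      right_inv := fun x => Subtype.ext (by simp [mul_assoc])
      map_mul' := fun x y => Subtype.ext (by simp [mul_assoc]) }
  letI : Module (ZMod p) (Additive U) := AddCommGroup.zmodModule fun x =>
    Additive.toMul.injective (Subtype.ext (by
      rw [toMul_nsmul, SubmonoidClass.coe_pow, hVexp _ (hUV (Additive.toMul x).2)]; rfl))
  obtain ⟨Θ, hΘ, hb⟩ := exists_root_of_commGroup p (T := U) hAp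
    (MonoidHom.mk' cj fun g h => MulEquiv.ext fun x => Subtype.ext (by simp [cj, mul_assoc]))
    (fun h hh => Subtype.ext (hUfaith h h.2.1 (hst h) fun u hu =>
      congrArg Subtype.val (hh ⟨u, hu⟩)))
    (fun x y => β x y) (fun x y z => hβl _ x.2 _ y.2 _ z.2)
    (fun x y z => hβr _ x.2 _ y.2 _ z.2)
    (fun h x y => hβinv h h.2.1 (hst h) _ x.2 _ y.2)
    (fun x hx => Subtype.ext (hβnd _ x.2 fun w hw => hx ⟨w, hw⟩))
  refine card_conjClasses_le_of_root p V hVexp hidx hself G hGV v hv Θ hΘ
    (fun s hs => (hb s hs).1) (fun s hs h hh => ((hb s hs).2 h).1 hh) (fun s hs h => ?_)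
  letI : CommGroup V :=
    { (inferInstance : Group V) with mul_comm := fun a b => Subtype.ext (hVcomm a a.2 b b.2) }
  let cm : V →* V := MonoidHom.mk'
    (fun x => (⟨(h : X) * x * (h : X)⁻¹, Subgroup.Normal.conj_mem inferInstance _ x.2 _⟩ : V) * x⁻¹)
    fun x y => by
      have h1 : (⟨(h : X) * ((x * y : V) : X) * (h : X)⁻¹,
            Subgroup.Normal.conj_mem inferInstance _ (x * y).2 _⟩ : V) =
          ⟨(h : X) * x * (h : X)⁻¹, Subgroup.Normal.conj_mem inferInstance _ x.2 _⟩ *
          ⟨(h : X) * y * (h : X)⁻¹, Subgroup.Normal.conj_mem inferInstance _ y.2 _⟩ :=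
        Subtype.ext (by simp [mul_assoc])
      rw [h1, mul_inv, mul_mul_mul_comm]
  have hker : Nat.card cm.ker = Nat.card {x : V // (h : X) * (x : X) * (h : X)⁻¹ = x} :=
    Nat.card_congr (Equiv.subtypeEquivRight fun x => by
      simp [cm, MonoidHom.mem_ker, mul_inv_eq_one, Subtype.ext_iff])
  have hV : Nat.card cm.ker * Nat.card cm.range = Nat.card V := by
    rw [← Subgroup.index_ker, Subgroup.card_mul_index]
  calc Complex.normSq (Θ (el p s h)) * (Nat.card {x : V // (h : X) * (x : X) * (h : X)⁻¹ = x} : ℝ)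
      ≤ (Nat.card cm.range : ℝ) * Nat.card cm.ker := by
        rw [← hker]
        refine mul_le_mul_of_nonneg_right (((hb s hs).2 h).2.trans (Nat.cast_le.mpr ?_))
          (Nat.cast_nonneg _)
        refine Nat.card_le_card_of_injective
          (fun y => ⟨⟨(y.1 : X), hUV y.1.2⟩, ?_⟩) fun y y' e =>
            Subtype.ext (Subtype.ext (congrArg (fun z : cm.range => ((z : V) : X)) e))
        obtain ⟨x, hx⟩ := y.2
        exact ⟨⟨(x : X), hUV x.2⟩, Subtype.ext (congrArg Subtype.val hx :)⟩
    _ = _ := by rw [← hV, Nat.cast_mul, mul_comm]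

end Cfsg.Agent.Lib.Characters.RealVector
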