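import Cfsg.Agent.Lib.Characters.RealVector.Heisenberg
import Mathlib.RepresentationTheory.Maschke
import Mathlib.RepresentationTheory.Subrepresentation

/-!
# A faithful submodule with a root

A faithful module with a non-degenerate invariant bilinear form contains a faithful submodule that
splits into symmetric, alternating and hyperbolic pieces, each of which has a root.
-/

namespace Cfsg.Agent.Lib.Characters.RealVector

open scoped ComplexConjugate
open Cfsg.Agent.Lib.Characters Cfsg

set_option autoImplicit false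
set_option linter.unusedSectionVars false
set_option linter.unusedVariables false
set_option linter.style.haveILetI false

universe u

variable (p : ℕ) [hp : Fact p.Prime] {H : Type u} [Group H] [Finite H]

theorem hasRoot_of_equiv {W W' : Type u} {act : H → W → W} {act' : H → W' → W'} (e : W ≃ W')
    (he : ∀ h w, e (act h w) = act' h (e w)) (hR : HasRoot p act) : HasRoot p act' := by
  obtain ⟨Θ, hΘ, hb⟩ := hR
  refine ⟨Θ, hΘ, fun s hs => ⟨(hb s hs).1, fun h => ⟨?_, ?_⟩⟩⟩
  · have h1 : Nat.card {w : W' // act' h w = w} = Nat.card {w : W // act h w = w} :=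
      (Nat.card_congr (e.subtypeEquiv fun w => by rw [← he, e.apply_eq_iff_eq])).symm
    rw [h1, ← Nat.card_congr e]
    exact ((hb s hs).2 h).1
  · rintro ⟨w, hw⟩
    refine ((hb s hs).2 h).2 ⟨e.symm w, fun h' => hw ?_⟩
    have := congrArg e h'
    rwa [he, e.apply_symm_apply] at this

theorem hasRoot_prod {W W' : Type u} [Finite W] [Finite W'] {act : H → W → W}
    {act' : H → W' → W'} (hR : HasRoot p act) (hR' : HasRoot p act') :
    HasRoot p (fun (h : H) (x : W × W') => (act h x.1, act' h x.2)) := by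
  obtain ⟨Θ, hΘ, hb⟩ := hR
  obtain ⟨Θ', hΘ', hb'⟩ := hR'
  refine ⟨Θ * Θ', IsGeneralizedCharacter.mul hΘ hΘ',
    fun s hs => ⟨by rw [Pi.mul_apply, (hb s hs).1, (hb' s hs).1, one_mul], fun h => ⟨?_, ?_⟩⟩⟩
  · have h1 : Nat.card {x : W × W' // (act h x.1, act' h x.2) = x} =
        Nat.card {w : W // act h w = w} * Nat.card {w : W' // act' h w = w} := by
      rw [← Nat.card_prod]
      exact Nat.card_congr
        { toFun := fun x => (⟨x.1.1, (Prod.ext_iff.mp x.2).1⟩, ⟨x.1.2, (Prod.ext_iff.mp x.2).2⟩)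
          invFun := fun x => ⟨(x.1.1, x.2.1), Prod.ext x.1.2 x.2.2⟩
          left_inv := fun _ => rfl
          right_inv := fun _ => rfl }
    rw [Pi.mul_apply, Complex.normSq_mul, h1, Nat.card_prod]
    push_cast
    have := mul_le_mul ((hb s hs).2 h).1 ((hb' s hs).2 h).1
      (mul_nonneg (Complex.normSq_nonneg _) (Nat.cast_nonneg _)) (Nat.cast_nonneg _)
    linarith
  · rintro ⟨⟨w, w'⟩, hw⟩
    by_cases h1 : act h w = w
    · refine Rad.mul_left (isIntegral_genChar hΘ _) (((hb' s hs).2 h).2 ⟨w', fun h2 => hw ?_⟩)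
      exact Prod.ext h1 h2
    · exact Rad.mul_right (((hb s hs).2 h).2 ⟨w, h1⟩) (isIntegral_genChar hΘ' _)

theorem hasRoot_subsingleton {W : Type u} [Subsingleton W] (act : H → W → W) : HasRoot p act := by
  refine ⟨fun _ => 1, IsCharacter.isGeneralizedCharacter isCharacter_one,
    fun s _ => ⟨rfl, fun h => ⟨?_, ?_⟩⟩⟩
  · rw [map_one, one_mul]
    exact_mod_cast Nat.card_le_card_of_injective _ Subtype.val_injective
  · rintro ⟨w, hw⟩
    exact absurd (Subsingleton.elim _ _) hw

section Pairing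

variable {p} {W W' : Type u} [AddCommGroup W] [Module (ZMod p) W] [Finite W]
  [AddCommGroup W'] [Module (ZMod p) W'] [Finite W']

theorem card_le_of_pairing (β : W →ₗ[ZMod p] W' →ₗ[ZMod p] ZMod p)
    (hr : ∀ y, (∀ x, β x y = 0) → y = 0) : Nat.card W' ≤ Nat.card W := by
  have hinj : Function.Injective β.flip := by
    refine (injective_iff_map_eq_zero _).mpr fun y hy => hr y fun x => ?_
    exact LinearMap.congr_fun hy x
  have h1 := LinearMap.finrank_le_finrank_of_injective hinj
  rw [Subspace.dual_finrank_eq] at h1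
  rw [Module.natCard_eq_pow_finrank (K := ZMod p) (V := W),
    Module.natCard_eq_pow_finrank (K := ZMod p) (V := W')]
  exact Nat.pow_le_pow_right Nat.card_pos h1

/-- Two modules in a perfect invariant pairing. -/
theorem hasRoot_hyperbolic (hpH : ¬ p ∣ Nat.card H) (ρ : Representation (ZMod p) H W)
    (ρ' : Representation (ZMod p) H W') (β : W →ₗ[ZMod p] W' →ₗ[ZMod p] ZMod p)
    (hl : ∀ x, (∀ y, β x y = 0) → x = 0) (hr : ∀ y, (∀ x, β x y = 0) → y = 0)
    (hinv : ∀ g x y, β (ρ g x) (ρ' g y) = β x y) :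
    HasRoot p (fun (h : H) (x : W × W') => (ρ h x.1, ρ' h x.2)) := by
  classical
  haveI := Fintype.ofFinite W
  set η := (monRep p ρ (fun _ => 0) (fun _ _ => rfl)).character with hη'
  have hη : IsGeneralizedCharacter _ η :=
    IsCharacter.isGeneralizedCharacter (isCharacter_of_rep _)
  have hηel : ∀ x, η x = (Nat.card (fixS ρ x.2) : ℂ) := fun x => by
    rw [hη', monRep_character, Nat.card_eq_fintype_card]
    simp only [mul_zero, AddChar.map_zero_eq_one, Finset.sum_boole, Fintype.card_subtype,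
      mem_fixS]
  have hcard : Nat.card W' = Nat.card W :=
    le_antisymm (card_le_of_pairing β hr) (card_le_of_pairing β.flip hl)
  have hfix : ∀ h, Nat.card (fixS ρ' h) ≤ Nat.card (fixS ρ h) := fun h => by
    refine card_le_of_pairing (β.compl₁₂ (fixS ρ h).subtype (fixS ρ' h).subtype)
      fun y hy => Subtype.ext (hr _ fun w => ?_)
    have hw : w ∈ fixS ρ h ⊔ movS ρ h := by rw [fixS_sup_movS ρ h hpH]; trivial
    obtain ⟨c, hc, d, ⟨v, rfl⟩, rfl⟩ := Submodule.mem_sup.mp hw
    rw [map_add, LinearMap.add_apply, show β c y = 0 from hy ⟨c, hc⟩, zero_add,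
      LinearMap.sub_apply, Module.End.one_apply, map_sub, LinearMap.sub_apply]
    conv_lhs => arg 1; rw [← (mem_fixS ρ' h).mp y.2]
    rw [hinv, sub_self]
  obtain ⟨N, hN⟩ := exists_card_eq_pow (⊤ : Submodule (ZMod p) W)
  rw [Nat.card_congr (Submodule.topEquiv (R := ZMod p) (M := W)).toEquiv] at hN
  refine hasRoot_of_eta p hpH hη (π := η * η) (IsGeneralizedCharacter.mul hη hη) (2 * N)
    (fun x => ?_) (fun s h => (Nat.card (movS ρ h) : ℂ)) (fun s _ h => ?_) (fun s _ h => ?_)
    (fun s _ => ?_) (fun s _ h => ?_) (fun s _ h hmv => ?_)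
  · obtain ⟨k, hk⟩ := exists_card_eq_pow (fixS ρ x.2)
    refine ⟨2 * k, Nat.mul_le_mul_left 2 ((Nat.pow_le_pow_iff_right hp.out.one_lt).mp ?_), ?_⟩
    · rw [← hk, ← hN]
      exact Nat.card_le_card_of_injective _ Subtype.val_injective
    · rw [Pi.mul_apply, hηel, hk, Nat.cast_pow, ← pow_add, two_mul]
  · exact isIntegral_algebraMap (x := ((Nat.card (movS ρ h) : ℕ) : ℤ))
  · rw [Pi.mul_apply, hηel, hηel, Complex.conj_natCast]
    have h1 : Nat.card (fixS ρ (1 : H)) = Nat.card W :=
      Nat.card_congr (Equiv.subtypeUnivEquiv fun w => (mem_fixS ρ 1).mpr (by simp))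
    rw [h1, ← card_fixS_mul_movS ρ h, Nat.cast_mul]
    ring
  · have h1 := card_fixS_mul_movS ρ (1 : H)
    rw [show Nat.card (fixS ρ (1 : H)) = Nat.card W from
      Nat.card_congr (Equiv.subtypeUnivEquiv fun w => (mem_fixS ρ 1).mpr (by simp))] at h1
    have h2 : Nat.card (movS ρ (1 : H)) = 1 :=
      Nat.eq_of_mul_eq_mul_left Nat.card_pos (by rw [h1, mul_one])
    rw [h2, Nat.cast_one]
  · have h1 : Nat.card {x : W × W' // (ρ h x.1, ρ' h x.2) = x} =
        Nat.card (fixS ρ h) * Nat.card (fixS ρ' h) := by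
      rw [← Nat.card_prod]
      exact Nat.card_congr
        { toFun := fun x => (⟨x.1.1, (mem_fixS ρ h).mpr (Prod.ext_iff.mp x.2).1⟩,
            ⟨x.1.2, (mem_fixS ρ' h).mpr (Prod.ext_iff.mp x.2).2⟩)
          invFun := fun x =>
            ⟨(x.1.1, x.2.1), Prod.ext ((mem_fixS ρ h).mp x.1.2) ((mem_fixS ρ' h).mp x.2.2)⟩
          left_inv := fun _ => rfl
          right_inv := fun _ => rfl }
    rw [Complex.normSq_natCast, h1, Nat.card_prod, hcard, ← card_fixS_mul_movS ρ h]
    have h3 := hfix h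
    exact_mod_cast (calc
      Nat.card (movS ρ h) * Nat.card (movS ρ h) * (Nat.card (fixS ρ h) * Nat.card (fixS ρ' h))
          ≤ Nat.card (movS ρ h) * Nat.card (movS ρ h) *
            (Nat.card (fixS ρ h) * Nat.card (fixS ρ h)) := by gcongr
        _ = _ := by ring)
  · have hmv' : ∃ w, ρ h w ≠ w := by
      by_contra hcon
      push Not at hcon
      obtain ⟨⟨w, w'⟩, hw⟩ := hmv
      refine hw (Prod.ext (hcon w) (sub_eq_zero.mp (hr _ fun x => ?_)))
      rw [map_sub]
      conv_lhs => arg 1; arg 1; rw [← hcon x]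
      rw [hinv, sub_self]
    obtain ⟨k, hk⟩ := exists_card_eq_pow (movS ρ h)
    have hk1 := one_le_of_moved ρ h hk hmv'
    rw [hk, Nat.cast_pow, ← Nat.sub_add_cancel hk1, pow_succ]
    exact Rad.natCast_self.mul_left (IsIntegral.pow (isIntegral_algebraMap (x := ((p : ℕ) : ℤ))) _)

/-- A simple module with a non-degenerate invariant bilinear form. -/
theorem hasRoot_selfDual (hpH : ¬ p ∣ Nat.card H) (ρ : Representation (ZMod p) H W)
    (hsimple : ∀ S : Submodule (ZMod p) W, (∀ g, ∀ x ∈ S, ρ g x ∈ S) → S = ⊥ ∨ S = ⊤)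
    (hmoved : ∃ g w, ρ g w ≠ w)
    (b : LinearMap.BilinForm (ZMod p) W) (hnd : ∀ x, (∀ y, b x y = 0) → x = 0)
    (hinv : ∀ g x y, b (ρ g x) (ρ g y) = b x y) :
    HasRoot p (fun (h : H) (w : W) => ρ h w) := by
  let s : LinearMap.BilinForm (ZMod p) W := b + b.flip
  have hs : ∀ x y, s x y = b x y + b y x := fun x y => rfl
  have hsinv : ∀ g x y, s (ρ g x) (ρ g y) = s x y := fun g x y => by
    rw [hs, hs, hinv, hinv]
  have hsnd : s ≠ 0 → ∀ x, (∀ y, s x y = 0) → x = 0 := fun hs0 x hx => by
    rcases hsimple (LinearMap.ker s) (fun g w hw => LinearMap.ext fun y => by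
      have hy : y = ρ g (ρ g⁻¹ y) := (rho_inv_apply p ρ g y).symm
      rw [hy, hsinv, LinearMap.mem_ker.mp hw]
      rfl) with h | h
    · exact (Submodule.mem_bot _).mp (h ▸ LinearMap.ext hx : x ∈ (⊥ : Submodule (ZMod p) W))
    · exact absurd (LinearMap.ker_eq_top.mp h) hs0
  have hssym : ∀ x y, s x y = s y x := fun x y => by rw [hs, hs, add_comm]
  by_cases hs0 : s = 0
  · have hanti : ∀ x y, b x y + b y x = 0 := fun x y => by rw [← hs, hs0]; rfl
    refine hasRoot_alt p hpH ρ b (fun x => ?_) hnd hinv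
    by_cases hp2 : p = 2
    · subst hp2
      have hadd : ∀ x y, b (x + y) (x + y) = b x x + b y y := fun x y => by
        simp only [map_add, LinearMap.add_apply]
        linear_combination hanti x y
      let q : W →+ ZMod 2 := AddMonoidHom.mk' (fun x => b x x) hadd
      by_contra hx
      rcases hsimple (LinearMap.ker (q.toZModLinearMap 2)) (fun g w hw => by
        rw [LinearMap.mem_ker] at hw ⊢
        exact (hinv g w w).trans hw) with h | h
      · obtain ⟨g, w, hw⟩ := hmoved
        have hinj := LinearMap.ker_eq_bot.mp h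
        exact hw (hinj (show b (ρ g w) (ρ g w) = b w w from hinv g w w))
      · exact hx (LinearMap.mem_ker.mp (h ▸ Submodule.mem_top : x ∈ LinearMap.ker (q.toZModLinearMap 2)))
    · have h2 : (2 : ZMod p) ≠ 0 := fun h => hp2 <| by
        have h' : ((2 : ℕ) : ZMod p) = 0 := by exact_mod_cast h
        exact ((Nat.prime_dvd_prime_iff_eq hp.out Nat.prime_two).mp
          ((ZMod.natCast_eq_zero_iff _ p).mp h'))
      exact (mul_eq_zero.mp (show (2 : ZMod p) * b x x = 0 by linear_combination hanti x x)).resolve_left h2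
  · by_cases hp2 : p = 2
    · subst hp2
      exact hasRoot_alt 2 hpH ρ s (fun x => by rw [hs, CharTwo.add_self_eq_zero]) (hsnd hs0) hsinv
    · exact hasRoot_symm p hp2 hpH ρ s hssym (hsnd hs0) hsinv

end Pairing

/-- A faithful submodule with a root. -/
theorem exists_faithful_root {U : Type u} [AddCommGroup U] [Module (ZMod p) U] [Finite U]
    (hpH : ¬ p ∣ Nat.card H) (ρ : Representation (ZMod p) H U)
    (b : LinearMap.BilinForm (ZMod p) U) (hnd : ∀ x, (∀ y, b x y = 0) → x = 0)
    (hinv : ∀ g x y, b (ρ g x) (ρ g y) = b x y) (hfaith : ∀ h, (∀ x, ρ h x = x) → h = 1) :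
    ∃ S : Subrepresentation ρ, (∀ h, (∀ x ∈ S, ρ h x = x) → h = 1) ∧
      HasRoot p (fun (h : H) (w : S.toSubmodule) => S.toRepresentation h w) := by
  classical
  haveI : Finite (Submodule (ZMod p) U) := Finite.of_injective _ SetLike.coe_injective
  haveI : Finite (Subrepresentation ρ) :=
    Finite.of_injective _ Subrepresentation.toSubmodule_injective
  have hgi : ∀ g x, ρ g (ρ g⁻¹ x) = x := fun g x => rho_inv_apply p ρ g x
  let Good : Subrepresentation ρ → Prop := fun S =>
    HasRoot p (fun (h : H) (w : S.toSubmodule) => S.toRepresentation h w)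
  have hsup : ∀ S T : Subrepresentation ρ, Disjoint S.toSubmodule T.toSubmodule →
      HasRoot p (fun (h : H) (x : S.toSubmodule × T.toSubmodule) =>
        (S.toRepresentation h x.1, T.toRepresentation h x.2)) → Good (S ⊔ T) := by
    intro S T hd hR
    have hmem : ∀ x : S.toSubmodule × T.toSubmodule, (x.1 : U) + x.2 ∈ (S ⊔ T).toSubmodule :=
      fun x => Submodule.add_mem_sup x.1.2 x.2.2
    have hbij : Function.Bijective fun x : S.toSubmodule × T.toSubmodule =>
        (⟨(x.1 : U) + x.2, hmem x⟩ : (S ⊔ T).toSubmodule) := by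
      refine ⟨fun x y hxy => ?_, fun w => ?_⟩
      · have hxy' : (x.1 : U) + x.2 = y.1 + y.2 := congrArg Subtype.val hxy
        have h1 : (x.1 : U) - y.1 = (y.2 : U) - x.2 := by
          rw [sub_eq_sub_iff_add_eq_add, hxy', add_comm]
        have h2 := Submodule.disjoint_def.mp hd _ (sub_mem x.1.2 y.1.2) (h1 ▸ sub_mem y.2.2 x.2.2)
        have h3 : (x.1 : U) = y.1 := sub_eq_zero.mp h2
        rw [h3] at hxy'
        exact Prod.ext (Subtype.ext h3) (Subtype.ext (add_left_cancel hxy'))
      · obtain ⟨c, hc, d, hd', hcd⟩ := Submodule.mem_sup.mp w.2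
        exact ⟨(⟨c, hc⟩, ⟨d, hd'⟩), Subtype.ext hcd⟩
    refine hasRoot_of_equiv p (Equiv.ofBijective _ hbij) (fun h w => Subtype.ext ?_) hR
    exact (map_add (ρ h) (w.1 : U) w.2).symm
  have hbot : Good ⊥ := by
    haveI : Subsingleton (⊥ : Subrepresentation ρ).toSubmodule :=
      inferInstanceAs (Subsingleton (⊥ : Submodule (ZMod p) U))
    exact hasRoot_subsingleton p _
  obtain ⟨W, hW, hWmax⟩ := (Set.toFinite {S | Good S}).exists_maximalFor id _ ⟨⊥, hbot⟩
  refine ⟨W, fun h₀ hh₀ => ?_, hW⟩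
  by_contra hh₀1
  -- the kernel on `W` and its fixed space
  have hKn : ∀ k g, (∀ x ∈ W, ρ k x = x) → ∀ x ∈ W, ρ (g⁻¹ * k * g) x = x := fun k g hk x hx => by
    rw [map_mul, map_mul, Module.End.mul_apply, Module.End.mul_apply,
      hk _ (W.apply_mem_toSubmodule g hx), ← Module.End.mul_apply, ← map_mul, inv_mul_cancel,
      map_one, Module.End.one_apply]
  let F : Subrepresentation ρ :=
    { toSubmodule :=
        { carrier := {x | ∀ k, (∀ y ∈ W, ρ k y = y) → ρ k x = x}
          add_mem' := fun ha hb k hk => by rw [map_add, ha k hk, hb k hk]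
          zero_mem' := fun k _ => map_zero _
          smul_mem' := fun c x hx k hk => by rw [map_smul, hx k hk] }
      apply_mem_toSubmodule := fun g x hx k hk => by
        have h1 : ρ (g⁻¹ * k * g) x = x := hx _ (hKn k g hk)
        conv_rhs => rw [← h1]
        rw [← Module.End.mul_apply, ← Module.End.mul_apply, ← map_mul, ← map_mul]
        congr 2
        group }
  haveI : NeZero (Nat.card H : ZMod p) :=
    ⟨fun h => hpH ((ZMod.natCast_eq_zero_iff _ p).mp h)⟩
  let iso := Subrepresentation.subrepresentationSubmoduleOrderIso (ρ := ρ)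
  have hcompl : ∀ S : Subrepresentation ρ, ∃ T, IsCompl S T := fun S => by
    obtain ⟨q, hq⟩ := MonoidAlgebra.Submodule.exists_isCompl (iso S)
    exact ⟨iso.symm q, by simpa using iso.symm.isCompl hq⟩
  have hdisj : ∀ {S T : Subrepresentation ρ}, Disjoint S T → Disjoint S.toSubmodule T.toSubmodule :=
    fun {S T} h => disjoint_iff.mpr (congrArg Subrepresentation.toSubmodule h.eq_bot :)
  have htop : ∀ {S T : Subrepresentation ρ}, IsCompl S T → ∀ x, ∃ y ∈ S, ∃ z ∈ T, y + z = x :=
    fun {S T} h x => by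
      have h1 : S.toSubmodule ⊔ T.toSubmodule = ⊤ :=
        congrArg Subrepresentation.toSubmodule h.sup_eq_top
      exact Submodule.mem_sup.mp (h1 ▸ Submodule.mem_top : x ∈ S.toSubmodule ⊔ T.toSubmodule)
  obtain ⟨C, hC⟩ := hcompl F
  have hC0 : C ≠ ⊥ := fun hC0 => hh₀1 (hfaith h₀ fun x => by
    have hF : F = ⊤ := by simpa [hC0] using hC.sup_eq_top
    exact (show x ∈ F by rw [hF]; exact Submodule.mem_top) h₀ hh₀)
  obtain ⟨N, ⟨hN0, hNC⟩, hNmin⟩ :=
    (Set.toFinite {S : Subrepresentation ρ | S ≠ ⊥ ∧ S ≤ C}).exists_minimalFor id _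
      ⟨C, hC0, le_rfl⟩
  have hsimple : ∀ S : Subrepresentation ρ, S ≤ N → S = ⊥ ∨ S = N := fun S hS => by
    by_cases h : S = ⊥
    · exact Or.inl h
    · exact Or.inr (le_antisymm hS (hNmin (j := S) ⟨h, hS.trans hNC⟩ hS))
  have hbotmem : ∀ {S : Subrepresentation ρ}, S ≠ ⊥ → ∃ x ∈ S, x ≠ 0 := fun {S} hS => by
    refine Submodule.exists_mem_ne_zero_of_ne_bot fun h => hS ?_
    exact Subrepresentation.toSubmodule_injective h
  have hNF : ∀ x ∈ N, x ∈ F → x = 0 := fun x hx hxF =>
    Submodule.disjoint_def.mp (hdisj hC.disjoint) x hxF (hNC hx)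
  -- the dual partner of `N`
  let R : Subrepresentation ρ :=
    { toSubmodule :=
        { carrier := {x | ∀ n ∈ N, b n x = 0}
          add_mem' := fun ha hb n hn => by rw [map_add, ha n hn, hb n hn, add_zero]
          zero_mem' := fun n _ => map_zero _
          smul_mem' := fun c x hx n hn => by rw [map_smul, hx n hn, smul_zero] }
      apply_mem_toSubmodule := fun g x hx n hn => by
        rw [← hgi g n, hinv]
        exact hx _ (N.apply_mem_toSubmodule _ hn) }
  obtain ⟨N', hN'⟩ := hcompl R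
  have hl : ∀ n ∈ N, (∀ y ∈ N', b n y = 0) → n = 0 := fun n hn h => hnd n fun x => by
    obtain ⟨y, hy, z, hz, rfl⟩ := htop hN' x
    rw [map_add, hy n hn, h z hz, add_zero]
  have hr : ∀ y ∈ N', (∀ n ∈ N, b n y = 0) → y = 0 := fun y hy h =>
    Submodule.disjoint_def.mp (hdisj hN'.disjoint) y h hy
  let β : N.toSubmodule →ₗ[ZMod p] N'.toSubmodule →ₗ[ZMod p] ZMod p :=
    b.compl₁₂ N.toSubmodule.subtype N'.toSubmodule.subtype
  have hl' : ∀ x, (∀ y, β x y = 0) → x = 0 := fun x h =>
    Subtype.ext (hl x x.2 fun y hy => h ⟨y, hy⟩)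
  have hr' : ∀ y, (∀ x, β x y = 0) → y = 0 := fun y h =>
    Subtype.ext (hr y y.2 fun x hx => h ⟨x, hx⟩)
  have hN'F : ∀ y ∈ N', y ∈ F → y = 0 := by
    let T : Subrepresentation ρ :=
      { toSubmodule :=
          { carrier := {x | x ∈ N ∧ ∀ y ∈ N', y ∈ F → b x y = 0}
            add_mem' := fun ha hb => ⟨N.toSubmodule.add_mem ha.1 hb.1, fun y hy hyF => by
              rw [map_add, LinearMap.add_apply, ha.2 y hy hyF, hb.2 y hy hyF, add_zero]⟩
            zero_mem' := ⟨N.toSubmodule.zero_mem, fun y _ _ => by simp⟩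
            smul_mem' := fun c x hx => ⟨N.toSubmodule.smul_mem c hx.1, fun y hy hyF => by
              rw [map_smul, LinearMap.smul_apply, hx.2 y hy hyF, smul_zero]⟩ }
        apply_mem_toSubmodule := fun g x hx => ⟨N.apply_mem_toSubmodule g hx.1, fun y hy hyF => by
          rw [← hgi g y, hinv]
          exact hx.2 _ (N'.apply_mem_toSubmodule _ hy) (F.apply_mem_toSubmodule _ hyF)⟩ }
    obtain ⟨n, hn, hn0⟩ := hbotmem hN0
    have hnF : ¬ n ∈ F := fun h => hn0 (hNF n hn h)
    obtain ⟨k, hk, hkn⟩ : ∃ k, (∀ x ∈ W, ρ k x = x) ∧ ρ k n ≠ n := by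
      by_contra hcon
      push Not at hcon
      exact hnF hcon
    have hmem : ρ k n - n ∈ T := ⟨N.toSubmodule.sub_mem (N.apply_mem_toSubmodule k hn) hn,
      fun y hy hyF => by
        rw [map_sub, LinearMap.sub_apply]
        conv_lhs => arg 1; arg 2; rw [← hyF k hk]
        rw [hinv, sub_self]⟩
    rcases hsimple T fun x hx => hx.1 with h | h
    · rw [h] at hmem
      exact absurd (sub_eq_zero.mp ((Submodule.mem_bot _).mp hmem)) hkn
    · exact fun y hy hyF => hr y hy fun x hx => (show x ∈ T by rw [h]; exact hx).2 y hy hyF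
  -- the new piece
  obtain ⟨P, hP, hNP, hPF⟩ : ∃ P, Good P ∧ N ≤ P ∧ ∀ x ∈ P, x ∈ F → x = 0 := by
    rcases hsimple (N ⊓ N') inf_le_left with h | h
    · have hd : Disjoint N.toSubmodule N'.toSubmodule := hdisj (disjoint_iff.mpr h)
      refine ⟨N ⊔ N', hsup _ _ hd (hasRoot_hyperbolic hpH N.toRepresentation N'.toRepresentation β
        hl' hr' fun g x y => hinv g _ _), le_sup_left, fun x hx hxF => ?_⟩
      obtain ⟨n, hn, y, hy, rfl⟩ := Submodule.mem_sup.mp
        (show x ∈ N.toSubmodule ⊔ N'.toSubmodule from hx)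
      have key : ∀ k, (∀ x ∈ W, ρ k x = x) → ρ k n = n ∧ ρ k y = y := fun k hk => by
        have h1 : ρ k n - n = y - ρ k y := by
          rw [sub_eq_sub_iff_add_eq_add, ← map_add, hxF k hk, add_comm]
        have h2 : ρ k n - n = 0 := Submodule.disjoint_def.mp hd _
          (sub_mem (N.apply_mem_toSubmodule k hn) hn)
          (h1 ▸ sub_mem hy (N'.apply_mem_toSubmodule k hy))
        exact ⟨sub_eq_zero.mp h2, (sub_eq_zero.mp (h1.symm.trans h2)).symm⟩
      rw [hNF n hn fun k hk => (key k hk).1, hN'F y hy fun k hk => (key k hk).2, add_zero]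
    · have hle : N ≤ N' := h ▸ inf_le_right
      have heq : N = N' := Subrepresentation.toSubmodule_injective
        (Submodule.eq_of_le_of_finrank_le hle ((Nat.pow_le_pow_iff_right hp.out.one_lt).mp (by
          have h1 := card_le_of_pairing β hr'
          rwa [Module.natCard_eq_pow_finrank (K := ZMod p) (V := N.toSubmodule),
            Module.natCard_eq_pow_finrank (K := ZMod p) (V := N'.toSubmodule), Nat.card_zmod] at h1)))
      refine ⟨N, hasRoot_selfDual hpH N.toRepresentation (fun S hS => ?_) ?_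
        (b.compl₁₂ N.toSubmodule.subtype N.toSubmodule.subtype) (fun x hx => ?_)
        (fun g x y => hinv g _ _), le_rfl, hNF⟩
      · let S' : Subrepresentation ρ :=
          { toSubmodule := S.map N.toSubmodule.subtype
            apply_mem_toSubmodule := fun g x hx => by
              obtain ⟨y, hy, rfl⟩ := Submodule.mem_map.mp hx
              exact Submodule.mem_map.mpr ⟨_, hS g y hy, rfl⟩ }
        rcases hsimple S' (fun x hx => by
          obtain ⟨y, -, rfl⟩ := Submodule.mem_map.mp hx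
          exact y.2) with h' | h'
        · left
          exact Submodule.map_injective_of_injective Subtype.val_injective
            ((congrArg Subrepresentation.toSubmodule h').trans (Submodule.map_bot _).symm)
        · right
          exact Submodule.map_injective_of_injective Subtype.val_injective
            ((congrArg Subrepresentation.toSubmodule h').trans
              (Submodule.map_subtype_top _).symm)
      · obtain ⟨n, hn, hn0⟩ := hbotmem hN0
        by_contra hcon
        push Not at hcon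
        exact hn0 (hNF n hn fun k _ => congrArg Subtype.val (hcon k ⟨n, hn⟩))
      · exact Subtype.ext (hl x x.2 fun y hy => hx ⟨y, heq ▸ hy⟩)
  have hWF : W ≤ F := fun x hx k hk => hk x hx
  have hd : Disjoint W.toSubmodule P.toSubmodule :=
    Submodule.disjoint_def.mpr fun x hx hxP => hPF x hxP (hWF hx)
  have hle : P ≤ W := le_sup_right.trans
    (hWmax (j := W ⊔ P) (hsup _ _ hd (hasRoot_prod p hW hP)) le_sup_left)
  obtain ⟨n, hn, hn0⟩ := hbotmem hN0
  exact hn0 (hNF n hn (hWF (hle (hNP hn))))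

end Cfsg.Agent.Lib.Characters.RealVector
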